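import Groth.Agent.Lib.Vol26.Map
import Groth.Agent.Lib.Cyc26.Stalk
import Groth.Agent.Lib.Cyc26.StalkLoc
import Groth.Agent.Lib.Cyc26.Frac
import Groth.Agent.Lib.Herbrand26.DimOne
import Groth.Agent.Lib.ModM1.Coh
import Groth.Prelude.Def_Cyc
import Groth.Prelude.Def_CycAlg

/-! # Lattices from stalks of coherent sheaves -/

set_option autoImplicit false
set_option linter.style.haveILetI false

universe u

open CategoryTheory AlgebraicGeometry TopologicalSpace Groth.Agent.M1

set_option backward.isDefEq.respectTransparency false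
set_option backward.isDefEq.respectTransparency.types false

noncomputable section

namespace Groth.Agent.Vol26

set_option linter.unusedSectionVars false

variable {X : Scheme.{u}} [IsLocallyNoetherian X] {δ : X → ℤ} (hd : Cyc.IsDimFun X δ)

theorem fromSpecStalk_ker {x ξ : X} (h : ξ ⤳ x) :
    X.fromSpecStalk x ⟨RingHom.ker (Cyc.specMap x ξ h), RingHom.ker_isPrime _⟩ = ξ := by
  have e : (⟨RingHom.ker (Cyc.specMap x ξ h), RingHom.ker_isPrime _⟩ : PrimeSpectrum (X.presheaf.stalk x)) =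
      Spec.map (X.presheaf.stalkSpecializes h) (IsLocalRing.closedPoint (X.presheaf.stalk ξ)) := by
    refine PrimeSpectrum.ext (Ideal.ext fun r => ?_)
    show X.residue ξ (X.presheaf.stalkSpecializes h r) = 0 ↔ _
    exact IsLocalRing.residue_eq_zero_iff _
  rw [show X.fromSpecStalk x _ = _ from congrArg (X.fromSpecStalk x) e, ← Scheme.Hom.comp_apply,
    Scheme.SpecMap_stalkSpecializes_fromSpecStalk, Scheme.fromSpecStalk_closedPoint]

theorem specializes_of_ker_le {x ξ η : X} (hξ : ξ ⤳ x) (hη : η ⤳ x)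
    (hle : RingHom.ker (Cyc.specMap x η hη) ≤ RingHom.ker (Cyc.specMap x ξ hξ)) : η ⤳ ξ := by
  have hsp : (⟨RingHom.ker (Cyc.specMap x η hη), RingHom.ker_isPrime _⟩ : PrimeSpectrum (X.presheaf.stalk x)) ⤳
      ⟨RingHom.ker (Cyc.specMap x ξ hξ), RingHom.ker_isPrime _⟩ := (PrimeSpectrum.le_iff_specializes _ _).1 hle
  have h2 := hsp.map (X.fromSpecStalk x).continuous
  rwa [fromSpecStalk_ker, fromSpecStalk_ker] at h2

theorem exists_pow_smul_eq_zero {R M : Type*} [CommRing R] [IsLocalRing R] [AddCommGroup M] [Module R M]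
    [IsArtinian R M] [IsNoetherian R M] {r : R} (hr : r ∈ IsLocalRing.maximalIdeal R) :
    ∃ n : ℕ, ∀ m : M, r ^ n • m = 0 := by
  open scoped Pointwise in
  obtain ⟨n, hn⟩ := IsArtinian.monotone_stabilizes (R := R) (M := M)
    ⟨fun n => OrderDual.toDual ((Ideal.span {r ^ n}) • (⊤ : Submodule R M)), fun a b h =>
      Submodule.smul_mono (Ideal.span_singleton_le_span_singleton.2 (pow_dvd_pow r h)) le_rfl⟩
  refine ⟨n, fun m => ?_⟩
  have he : (Ideal.span {r ^ n}) • (⊤ : Submodule R M) = (Ideal.span {r ^ (n + 1)}) • ⊤ := hn (n + 1) (Nat.le_succ n)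
  have h0 : (Ideal.span {r ^ n}) • (⊤ : Submodule R M) = ⊥ := by
    refine Submodule.eq_bot_of_le_smul_of_le_jacobson_bot (Ideal.span {r}) _ (IsNoetherian.noetherian _) ?_ ?_
    · rw [← Submodule.smul_assoc, smul_eq_mul, Ideal.span_singleton_mul_span_singleton, ← pow_succ', ← he]
    · rw [IsLocalRing.jacobson_eq_maximalIdeal ⊥ bot_ne_top, Ideal.span_singleton_le_iff_mem]
      exact hr
  rw [← Submodule.mem_bot R, ← h0]
  exact Submodule.smul_mem_smul (Ideal.mem_span_singleton_self _) trivial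

/-- The one-step specialisations of a point. -/
abbrev Below (δ : X → ℤ) (ξ : X) : Type u := {x : X // ξ ⤳ x ∧ δ x + 1 = δ ξ}

/-- The place at a one-step specialisation. -/
def plc (ξ : X) (i : Below δ ξ) : Pl.{u} (X.presheaf.stalk ξ) where
  A := X.presheaf.stalk i.1
  ρ := (X.presheaf.stalkSpecializes i.2.1).hom
  surj := fun r => by
    letI := (X.presheaf.stalkSpecializes i.2.1).hom.toAlgebra
    haveI := Cyc26.isLocalization_stalkSpecializes i.2.1
    obtain ⟨⟨a, s⟩, h⟩ := IsLocalization.surj (RingHom.ker (Cyc.specMap i.1 ξ i.2.1)).primeCompl r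
    exact ⟨a, s.1, IsLocalization.map_units _ s, (mul_comm _ _).trans h⟩
  dim := Cyc26.dim_locQuot_le_one hd i.2.1 i.2.2

theorem ord_plc (ξ : X) (i : Below δ ξ) (f : X.residueField ξ) :
    (plc hd ξ i).ord f = Cyc.divFun δ ξ f i.1 := by
  rw [Cyc.divFun, dif_pos i.2]
  rfl

variable {F : X.Modules}

/-- The stalk at a specialisation, as a lattice. -/
def stalkLat (hF : Coh.IsCoh F) (ξ : X) (i : Below δ ξ) : Lat (plc hd ξ i) (F.presheaf.stalk ξ) :=
  haveI := hF.1
  haveI := finite_stalk hF.1 (isFP_isFT (isFP_of_isCoh hF)) i.1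
  letI : Module (plc hd ξ i).A (F.presheaf.stalk i.1) :=
    (inferInstance : Module (X.presheaf.stalk i.1) (F.presheaf.stalk i.1))
  { M := F.presheaf.stalk i.1
    acg := inferInstance
    mod := (inferInstance : Module (X.presheaf.stalk i.1) (F.presheaf.stalk i.1))
    fin := (inferInstance : Module.Finite (X.presheaf.stalk i.1) (F.presheaf.stalk i.1))
    l :=
      { toFun := F.presheaf.stalkSpecializes i.2.1
        map_add' := map_add (F.presheaf.stalkSpecializes i.2.1).hom
        map_smul' := fun r m => Cyc26.stalkSpecializes_smul F i.2.1 r m }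
    surj := fun n => by
      obtain ⟨U, hU, hx, -⟩ := exists_isAffineOpen_mem_and_subset (U := (⊤ : X.Opens)) (x := i.1) trivial
      have hξ : ξ ∈ U := i.2.1.mem_open U.isOpen hx
      obtain ⟨r, s, hr, he⟩ := exists_germ_smul_eq F hU hξ n
      have e1 : X.presheaf.stalkSpecializes i.2.1 (X.presheaf.germ U i.1 hx r) = X.presheaf.germ U ξ hξ r :=
        TopCat.Presheaf.germ_stalkSpecializes_apply X.presheaf hx i.2.1 r
      refine ⟨F.presheaf.germ U i.1 hx s, X.presheaf.germ U i.1 hx r, ?_, ?_⟩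
      · show IsUnit (X.presheaf.stalkSpecializes i.2.1 (X.presheaf.germ U i.1 hx r))
        rwa [e1]
      · show X.presheaf.stalkSpecializes i.2.1 (X.presheaf.germ U i.1 hx r) • n = F.presheaf.stalkSpecializes i.2.1 _
        rw [e1, he, TopCat.Presheaf.germ_stalkSpecializes_apply] }

include hd in
/-- A point of the support of dimension `k + 1` is maximal. -/
theorem maximal_of_eq {k : ℤ} (hdim : ∀ x : X, Nontrivial (F.presheaf.stalk x) → δ x ≤ k + 1) {ξ : X}
    (hξ : δ ξ = k + 1) {y : X} (hy : Nontrivial (F.presheaf.stalk y)) (h : y ⤳ ξ) : y = ξ := by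
  by_contra hne
  have h1 := (hd y ξ h hne).1
  have h2 := hdim y hy
  omega

include hd in
theorem isFiniteLength_stalk (hF : Coh.IsCoh F) {k : ℤ}
    (hdim : ∀ x : X, Nontrivial (F.presheaf.stalk x) → δ x ≤ k + 1) {ξ : X} (hξ : δ ξ = k + 1) :
    IsArtinian (X.presheaf.stalk ξ) (F.presheaf.stalk ξ) ∧ IsNoetherian (X.presheaf.stalk ξ) (F.presheaf.stalk ξ) := by
  have h := Module.length_ne_top_iff.1
    (Cyc26.length_stalk_ne_top hF fun y hy hs => maximal_of_eq hd hdim hξ hy hs)
  rw [isFiniteLength_iff_isNoetherian_isArtinian] at h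
  exact ⟨h.2, h.1⟩

include hd in
theorem finite_generic (hF : Coh.IsCoh F) {k : ℤ} (hdim : ∀ x : X, Nontrivial (F.presheaf.stalk x) → δ x ≤ k + 1)
    {U : X.Opens} (hU : IsAffineOpen U) :
    {ξ : X | δ ξ = k + 1 ∧ Nontrivial (F.presheaf.stalk ξ) ∧ ξ ∈ U}.Finite := by
  refine (Cyc26.finite_maximal_points (isClosed_support (M := F) (isFP_isFT (isFP_of_isCoh hF))) hU).subset ?_
  rintro ξ ⟨hξ, hn, hU'⟩
  exact ⟨not_subsingleton_iff_nontrivial.2 hn, fun y hy h =>
    maximal_of_eq hd hdim hξ (not_subsingleton_iff_nontrivial.1 hy) h, hU'⟩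

/-- The generalisations of dimension `k + 1` of a point of dimension `k`. -/
abbrev Above (δ : X → ℤ) (k : ℤ) (x : X) : Type u := {ξ : X // ξ ⤳ x ∧ δ ξ = k + 1}

include hd in
theorem exists_finset_above (hF : Coh.IsCoh F) {k : ℤ}
    (hdim : ∀ x : X, Nontrivial (F.presheaf.stalk x) → δ x ≤ k + 1) (x : X) :
    ∃ T : Finset (Above δ k x), ∀ ξ, Nontrivial (F.presheaf.stalk ξ.1) → ξ ∈ T := by
  obtain ⟨U, hU, hx, -⟩ := exists_isAffineOpen_mem_and_subset (U := (⊤ : X.Opens)) (x := x) trivial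
  have h := (finite_generic hd hF hdim hU).preimage (Subtype.val_injective (p := fun ξ => ξ ⤳ x ∧ δ ξ = k + 1)).injOn
  exact ⟨h.toFinset, fun ξ hn => h.mem_toFinset.2 ⟨ξ.2.2, hn, ξ.2.1.mem_open U.isOpen hx⟩⟩

/-- The kernel of the map of a stalk to the stalk at a generalisation. -/
def kerSpec (F : X.Modules) {x ξ : X} (h : ξ ⤳ x) : Submodule (X.presheaf.stalk x) (F.presheaf.stalk x) where
  carrier := {m | F.presheaf.stalkSpecializes h m = 0}
  zero_mem' := map_zero (F.presheaf.stalkSpecializes h).hom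
  add_mem' := fun {a b} ha hb => by
    show F.presheaf.stalkSpecializes h (a + b) = 0
    rw [map_add, show F.presheaf.stalkSpecializes h a = 0 from ha, show F.presheaf.stalkSpecializes h b = 0 from hb,
      add_zero]
  smul_mem' := fun r m hm => by
    show F.presheaf.stalkSpecializes h (r • m) = 0
    rw [Cyc26.stalkSpecializes_smul, show F.presheaf.stalkSpecializes h m = 0 from hm, smul_zero]

theorem mem_kerSpec (F : X.Modules) {x ξ : X} (h : ξ ⤳ x) (m : F.presheaf.stalk x) :
    m ∈ kerSpec F h ↔ F.presheaf.stalkSpecializes h m = 0 := Iff.rfl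

theorem kerSpec_eq_top {x ξ : X} (h : ξ ⤳ x) (hn : ¬ Nontrivial (F.presheaf.stalk ξ)) : kerSpec F h = ⊤ :=
  eq_top_iff.2 fun m _ => @Subsingleton.elim _ (not_nontrivial_iff_subsingleton.1 hn) _ _

/-- The map of a stalk to the product of its images at generalisations of dimension `k + 1`. -/
def diag (δ : X → ℤ) (k : ℤ) (F : X.Modules) (x : X) :
    F.presheaf.stalk x →ₗ[X.presheaf.stalk x] (∀ ξ : Above δ k x, F.presheaf.stalk x ⧸ kerSpec F ξ.2.1) :=
  LinearMap.pi fun ξ => (kerSpec F ξ.2.1).mkQ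

include hd in
/-- The map to the product of images has kernel and cokernel of finite length. -/
theorem finCoh_diag (hF : Coh.IsCoh F) {k : ℤ} (hdim : ∀ x : X, Nontrivial (F.presheaf.stalk x) → δ x ≤ k + 1)
    {x : X} (hx : δ x = k) :
    CycAlg.FinCoh (X.presheaf.stalk x) (diag δ k F x) 0 := by
  classical
  haveI := hF.1
  haveI := finite_stalk hF.1 (isFP_isFT (isFP_of_isCoh hF)) x
  haveI : IsNoetherianRing (X.presheaf.stalk x) := inferInstance
  obtain ⟨T, hT⟩ := exists_finset_above hd hF hdim x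
  let prj : (∀ ξ : T, F.presheaf.stalk x ⧸ kerSpec F ξ.1.2.1) →ₗ[X.presheaf.stalk x]
      (∀ ξ : Above δ k x, F.presheaf.stalk x ⧸ kerSpec F ξ.2.1) :=
    LinearMap.pi fun ξ => if h : ξ ∈ T then LinearMap.proj (φ := fun η : T => F.presheaf.stalk x ⧸ kerSpec F η.1.2.1) ⟨ξ, h⟩ else 0
  haveI : Module.Finite (X.presheaf.stalk x) (∀ ξ : Above δ k x, F.presheaf.stalk x ⧸ kerSpec F ξ.2.1) := by
    refine Module.Finite.of_surjective prj fun y => ⟨fun ξ => y ξ.1, funext fun ξ => ?_⟩
    by_cases h : ξ ∈ T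
    · simp [prj, h]
    · haveI : Subsingleton (F.presheaf.stalk x ⧸ kerSpec F ξ.2.1) :=
        Submodule.Quotient.subsingleton_iff.2 (kerSpec_eq_top _ fun hn => h (hT ξ hn))
      exact Subsingleton.elim _ _
  -- primes of the support below the closed point
  have key : ∀ p : PrimeSpectrum (X.presheaf.stalk x), p ∈ Module.support (X.presheaf.stalk x) (F.presheaf.stalk x) →
      p.asIdeal ≠ IsLocalRing.maximalIdeal (X.presheaf.stalk x) →
      ∃ ξ : Above δ k x, Nontrivial (F.presheaf.stalk ξ.1) ∧ RingHom.ker (Cyc.specMap x ξ.1 ξ.2.1) = p.asIdeal := by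
    intro p hp hpm
    obtain ⟨ξ, h, hk⟩ : ∃ (ξ : X) (h : ξ ⤳ x), RingHom.ker (Cyc.specMap x ξ h) = p.asIdeal := by
      have h : X.fromSpecStalk x p ⤳ x := by
        have : X.fromSpecStalk x p ∈ Set.range (X.fromSpecStalk x) := ⟨_, rfl⟩
        rwa [Scheme.range_fromSpecStalk] at this
      exact ⟨_, h, congrArg PrimeSpectrum.asIdeal ((X.fromSpecStalk x).isEmbedding.injective (fromSpecStalk_ker h))⟩
    have hne : ξ ≠ x := fun e => hpm (by
      subst e
      rw [← hk]
      ext r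
      rw [RingHom.mem_ker]
      show X.residue ξ (X.presheaf.stalkSpecializes h r) = 0 ↔ _
      rw [TopCat.Presheaf.stalkSpecializes_refl]
      exact IsLocalRing.residue_eq_zero_iff _)
    have hp' := hp
    rw [show p = ⟨RingHom.ker (Cyc.specMap x ξ h), RingHom.ker_isPrime _⟩ from PrimeSpectrum.ext hk.symm,
      Cyc26.mem_support_stalk_iff hF.1 h] at hp'
    have h1 := (hd ξ x h hne).1
    have h2 := hdim ξ hp'
    exact ⟨⟨ξ, h, by omega⟩, hp', hk⟩
  -- a uniformising denominator: outside the prime of `ξ`, killing the other factors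
  have sep : ∀ ξ : Above δ k x, ∃ t : X.presheaf.stalk x, t ∉ RingHom.ker (Cyc.specMap x ξ.1 ξ.2.1) ∧
      ∀ η : Above δ k x, η ≠ ξ → ∀ m : F.presheaf.stalk x, t • m ∈ kerSpec F η.2.1 := by
    intro ξ
    haveI := RingHom.ker_isPrime (Cyc.specMap x ξ.1 ξ.2.1)
    have one : ∀ η : Above δ k x, η ≠ ξ → ∃ t : X.presheaf.stalk x, t ∉ RingHom.ker (Cyc.specMap x ξ.1 ξ.2.1) ∧
        ∀ m : F.presheaf.stalk x, t • m ∈ kerSpec F η.2.1 := by
      intro η hη
      have hns : ¬ η.1 ⤳ ξ.1 := fun h => by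
        have h1 := (hd η.1 ξ.1 h fun e => hη (Subtype.ext e)).1
        have := ξ.2.2
        have := η.2.2
        omega
      obtain ⟨a, ha, ha'⟩ : ∃ a, a ∈ RingHom.ker (Cyc.specMap x η.1 η.2.1) ∧
          a ∉ RingHom.ker (Cyc.specMap x ξ.1 ξ.2.1) := by
        by_contra hall
        push_neg at hall
        exact hns (specializes_of_ker_le ξ.2.1 η.2.1 hall)
      haveI := (isFiniteLength_stalk hd hF hdim η.2.2).1
      haveI := (isFiniteLength_stalk hd hF hdim η.2.2).2
      obtain ⟨n, hn⟩ := exists_pow_smul_eq_zero (M := F.presheaf.stalk η.1)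
        (r := X.presheaf.stalkSpecializes η.2.1 a) ((IsLocalRing.residue_eq_zero_iff _).1 ha)
      refine ⟨a ^ n, fun h => ha' (Ideal.IsPrime.mem_of_pow_mem inferInstance n h), fun m => ?_⟩
      show F.presheaf.stalkSpecializes η.2.1 (a ^ n • m) = 0
      rw [Cyc26.stalkSpecializes_smul, map_pow]
      exact hn _
    choose t ht htm using one
    refine ⟨∏ η ∈ T.erase ξ, if h : η ≠ ξ then t η h else 1, fun hmem => ?_, fun η hη m => ?_⟩
    · obtain ⟨η, hη, h⟩ := (Ideal.IsPrime.prod_mem_iff (hp := RingHom.ker_isPrime _)).1 hmem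
      rw [dif_pos (Finset.ne_of_mem_erase hη)] at h
      exact ht η _ h
    · by_cases hηT : η ∈ T
      · rw [← Finset.mul_prod_erase _ _ (Finset.mem_erase.2 ⟨hη, hηT⟩), dif_pos hη, mul_smul]
        exact htm η hη _
      · rw [kerSpec_eq_top η.2.1 fun hn => hηT (hT η hn)]
        trivial
  constructor
  · refine lt_top_iff_ne_top.2 (Herbrand26.isFiniteLength_of_support_subset fun p hp => ?_)
    by_contra hpm
    obtain ⟨⟨z, hz⟩, hz0⟩ : ∃ z : CycAlg.perH (diag δ k F x) 0, ∀ r ∉ p.asIdeal, r • z ≠ 0 :=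
      Module.mem_support_iff'.1 hp
    have hp2 : p ∈ Module.support (X.presheaf.stalk x) (F.presheaf.stalk x) :=
      Module.support_subset_of_injective (LinearMap.ker (diag δ k F x)).subtype Subtype.val_injective
        (Module.support_subset_of_surjective _ (Submodule.mkQ_surjective _) hp)
    obtain ⟨ξ, hn, hk⟩ := key p hp2 hpm
    have h0 : F.presheaf.stalkSpecializes ξ.2.1 z = 0 :=
      (Submodule.Quotient.mk_eq_zero _).1 (congrFun hz ξ)
    obtain ⟨U, hU, hx', -⟩ := exists_isAffineOpen_mem_and_subset (U := (⊤ : X.Opens)) (x := x) trivial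
    obtain ⟨r, s, hr, he⟩ := exists_germ_smul_eq F hU hx' z
    have hξU : ξ.1 ∈ U := ξ.2.1.mem_open U.isOpen hx'
    have hs0 : F.presheaf.germ U ξ.1 hξU s = 0 := by
      rw [← TopCat.Presheaf.germ_stalkSpecializes_apply F.presheaf hx' ξ.2.1 s, ← he, Cyc26.stalkSpecializes_smul, h0,
        smul_zero]
    obtain ⟨c, hc, hcs⟩ := exists_smul_eq_zero_of_germ_eq_zero F hU hξU s hs0
    refine hz0 (X.presheaf.germ U x hx' c) ?_ ?_
    · rw [← hk, RingHom.mem_ker]
      show X.residue ξ.1 (X.presheaf.stalkSpecializes ξ.2.1 _) ≠ 0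
      rw [TopCat.Presheaf.germ_stalkSpecializes_apply]
      exact (hc.map (X.residue ξ.1).hom).ne_zero
    · refine (Submodule.Quotient.mk_eq_zero _).2 ?_
      show X.presheaf.germ U x hx' c • z ∈ LinearMap.range (0 : _ →ₗ[X.presheaf.stalk x] _)
      have h1 : X.presheaf.germ U x hx' r • (X.presheaf.germ U x hx' c • z) = 0 := by
        rw [smul_comm, he, ← germ_smul, hcs, map_zero]
      rw [(IsUnit.smul_eq_zero hr).1 h1]
      exact zero_mem _
  · refine lt_top_iff_ne_top.2 (Herbrand26.isFiniteLength_of_support_subset fun p hp => ?_)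
    by_contra hpm
    obtain ⟨y, hy⟩ : ∃ y : CycAlg.perH (0 : _ →ₗ[X.presheaf.stalk x] _) (diag δ k F x), ∀ r ∉ p.asIdeal, r • y ≠ 0 :=
      Module.mem_support_iff'.1 hp
    have hp2 : p ∈ Module.support (X.presheaf.stalk x) (F.presheaf.stalk x) := by
      by_contra hns
      rw [Module.notMem_support_iff'] at hns
      obtain ⟨⟨y, hy'⟩, rfl⟩ := Submodule.Quotient.mk_surjective _ y
      choose r hr hr0 using fun ξ : Above δ k x => hns (Submodule.Quotient.mk_surjective _ (y ξ)).choose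
      refine hy (∏ ξ ∈ T, r ξ) (fun h => ?_) ?_
      · obtain ⟨ξ, -, h'⟩ := (Ideal.IsPrime.prod_mem_iff (hp := p.2)).1 h
        exact hr ξ h'
      · rw [← Submodule.Quotient.mk_smul]
        refine (Submodule.Quotient.mk_eq_zero _).2 ⟨0, ?_⟩
        rw [map_zero]
        refine (funext fun ξ => ?_).symm
        show (∏ η ∈ T, r η) • y ξ = 0
        rw [← (Submodule.Quotient.mk_surjective _ (y ξ)).choose_spec]
        by_cases hξ : ξ ∈ T
        · rw [← Finset.mul_prod_erase _ _ hξ, mul_comm, mul_smul, ← Submodule.Quotient.mk_smul, hr0,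
            Submodule.Quotient.mk_zero, smul_zero]
        · haveI : Subsingleton (F.presheaf.stalk x ⧸ kerSpec F ξ.2.1) :=
            Submodule.Quotient.subsingleton_iff.2 (kerSpec_eq_top _ fun hn => hξ (hT ξ hn))
          exact Subsingleton.elim _ _
    obtain ⟨ξ, hn, hk⟩ := key p hp2 hpm
    obtain ⟨⟨y, hy'⟩, rfl⟩ := Submodule.Quotient.mk_surjective _ y
    obtain ⟨t, ht, htm⟩ := sep ξ
    obtain ⟨m, hm⟩ := Submodule.Quotient.mk_surjective _ (y ξ)
    refine hy t (hk ▸ ht) ?_
    rw [← Submodule.Quotient.mk_smul]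
    refine (Submodule.Quotient.mk_eq_zero _).2 ⟨t • m, funext fun η => ?_⟩
    show Submodule.Quotient.mk (p := kerSpec F η.2.1) (t • m) = t • y η
    obtain ⟨m', hm'⟩ := Submodule.Quotient.mk_surjective _ (y η)
    rw [← hm', ← Submodule.Quotient.mk_smul]
    rcases eq_or_ne η ξ with rfl | hη
    · rw [Submodule.Quotient.mk_smul, Submodule.Quotient.mk_smul, hm, hm']
    · rw [(Submodule.Quotient.mk_eq_zero _).2 (htm η hη m), (Submodule.Quotient.mk_eq_zero _).2 (htm η hη m')]

end Groth.Agent.Vol26
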