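import Groth.Agent.Lib.Vol26.KMain
import Groth.Agent.Lib.Cyc26.ZigzagStalk

/-! # The class of a locally finite family of zigzags -/

set_option autoImplicit false
set_option linter.style.haveILetI false

universe u

open CategoryTheory CategoryTheory.Limits AlgebraicGeometry TopologicalSpace

set_option backward.isDefEq.respectTransparency false
set_option backward.isDefEq.respectTransparency.types false

noncomputable section

namespace Groth.Agent.Vol26

open CurveCoh17 (stalkLin)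
open scoped Classical

variable {X : Scheme.{u}}

theorem isChar_toK0 {δ : X → ℤ} {k a b : ℤ} (ha : k ≤ a) (hb : k - 1 ≤ b) :
    IsChar δ k (Cyc.toK0CohQuot δ a b) where
  add S hS h1 h2 h3 := by
    simp only [Cyc.toK0CohQuot]
    rw [K0Cat.clSub_ses (P := Cyc.CohLe δ a) S hS (cohLe_mono ha h1) (cohLe_mono ha h2) (cohLe_mono ha h3),
      QuotientAddGroup.mk_add]
  zero F hF := (QuotientAddGroup.eq_zero_iff _).2 (AddSubgroup.subset_closure ⟨F, cohLe_mono hb hF, rfl⟩)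

theorem toK0_add {δ : X → ℤ} (a b : ℤ) {S : ShortComplex X.Modules} (hS : S.ShortExact)
    (h1 : Cyc.CohLe δ a S.X₁) (h2 : Cyc.CohLe δ a S.X₂) (h3 : Cyc.CohLe δ a S.X₃) :
    Cyc.toK0CohQuot δ a b S.X₂ = Cyc.toK0CohQuot δ a b S.X₁ + Cyc.toK0CohQuot δ a b S.X₃ := by
  simp only [Cyc.toK0CohQuot]
  rw [K0Cat.clSub_ses (P := Cyc.CohLe δ a) S hS h1 h2 h3, QuotientAddGroup.mk_add]

theorem exists_gen_closureStructureSheaf (ξ : X) :
    ∃ g : ∀ x : X, ξ ⤳ x → (Cyc.closureStructureSheaf ξ).presheaf.stalk x,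
      Cyc26.IsPtGen ξ (Cyc.closureStructureSheaf ξ) g ∧
      ∀ x (h : ξ ⤳ x) (r : X.presheaf.stalk ξ),
        r • (Cyc.closureStructureSheaf ξ).presheaf.stalkSpecializes h (g x h) = 0 ↔ X.residue ξ r = 0 := by
  obtain ⟨hI, z, hz, hzξ⟩ := NumPoly18.isIntegral_pt ξ
  haveI := hI
  obtain rfl := (genericPoint_spec _).eq hz
  have hg := Cyc26.isPtGen_push (NumPoly18.ptIdeal ξ).subschemeι
  obtain ⟨g, hg'⟩ : ∃ g, Cyc26.IsPtGen ξ (Cyc.closureStructureSheaf ξ) g := by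
    rw [hzξ] at hg
    exact ⟨_, hg⟩
  refine ⟨g, hg', fun x h r => ?_⟩
  rw [hg'.spec, hg'.ann, RingHom.mem_ker]
  show X.residue ξ (X.presheaf.stalkSpecializes specializes_rfl r) = 0 ↔ _
  rw [TopCat.Presheaf.stalkSpecializes_refl]
  rfl

variable [IsLocallyNoetherian X] {δ : X → ℤ}

/-- The local index of two maps to cyclic modules related by a rational function. -/
theorem local_index (hd : Cyc.IsDimFun X δ) {ξ x : X} (h : ξ ⤳ x) (hδ : δ x + 1 = δ ξ) {W G G' : X.Modules}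
    (hW : Coh.IsQCoh W) (φ : W ⟶ G) (ψ : W ⟶ G') (hφ : Function.Bijective (stalkLin φ ξ))
    {gx : G.presheaf.stalk x} {gx' : G'.presheaf.stalk x}
    (hs : ∀ m : G.presheaf.stalk x, ∃ r : X.presheaf.stalk x, r • gx = m)
    (hs' : ∀ m : G'.presheaf.stalk x, ∃ r : X.presheaf.stalk x, r • gx' = m)
    (ha : ∀ r : X.presheaf.stalk x, r • gx = 0 ↔ r ∈ RingHom.ker (Cyc.specMap x ξ h))
    (ha' : ∀ r : X.presheaf.stalk x, r • gx' = 0 ↔ r ∈ RingHom.ker (Cyc.specMap x ξ h))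
    (hm : ∀ r : X.presheaf.stalk ξ, r • G.presheaf.stalkSpecializes h gx = 0 → X.residue ξ r = 0)
    (hm' : ∀ r : X.presheaf.stalk ξ, r • G'.presheaf.stalkSpecializes h gx' = 0 → X.residue ξ r = 0)
    {t : X.presheaf.stalk ξ} (ht : X.residue ξ t ≠ 0)
    (hrel : ∀ (w : W.presheaf.stalk ξ) (r : X.presheaf.stalk ξ), stalkLin φ ξ w = r • G.presheaf.stalkSpecializes h gx →
      stalkLin ψ ξ w = (r * t) • G'.presheaf.stalkSpecializes h gx') :
    Module.length (X.presheaf.stalk x) ((kernel φ).presheaf.stalk x) =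
        Module.length (X.presheaf.stalk x) ((kernel ψ).presheaf.stalk x) ∧
      ((Module.length (X.presheaf.stalk x) ((cokernel ψ).presheaf.stalk x)).toNat : ℤ) -
        ((Module.length (X.presheaf.stalk x) ((cokernel φ).presheaf.stalk x)).toNat : ℤ) =
        Cyc.ordAt x ξ h (X.residue ξ t) := by
  let S := X.presheaf.stalk x
  let R := Cyc.LocQuot x ξ h
  have mkEquiv : ∀ {G : X.Modules} {gx : G.presheaf.stalk x}, (∀ m : G.presheaf.stalk x, ∃ r : S, r • gx = m) →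
      (∀ r : S, r • gx = 0 ↔ r ∈ RingHom.ker (Cyc.specMap x ξ h)) →
      ∃ e : R ≃ₗ[S] G.presheaf.stalk x, ∀ r : S, e (Ideal.Quotient.mk _ r) = r • gx := by
    intro G gx hs ha
    let q : R →ₗ[S] G.presheaf.stalk x := Submodule.liftQ _ (LinearMap.toSpanSingleton S _ gx)
      fun r hr => (ha r).2 hr
    refine ⟨LinearEquiv.ofBijective q ⟨?_, fun m => ?_⟩, fun r => rfl⟩
    · rw [← LinearMap.ker_eq_bot, Submodule.eq_bot_iff]
      intro z hz
      obtain ⟨r, rfl⟩ := Ideal.Quotient.mk_surjective z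
      exact Ideal.Quotient.eq_zero_iff_mem.2 ((ha r).1 hz)
    · obtain ⟨r, rfl⟩ := hs m
      exact ⟨Ideal.Quotient.mk _ r, rfl⟩
  obtain ⟨eG, heG⟩ := mkEquiv hs ha
  obtain ⟨eT, heT⟩ := mkEquiv hs' ha'
  let φ' : W.presheaf.stalk x →ₗ[S] R := eG.symm.toLinearMap.comp (stalkLin φ x)
  let ψ' : W.presheaf.stalk x →ₗ[S] R := eT.symm.toLinearMap.comp (stalkLin ψ x)
  haveI := Cyc26.isFractionRing_locQuot h
  let σ := algebraMap R (X.residueField ξ)
  have hσ : Function.Injective σ := IsFractionRing.injective R _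
  have hσmk : ∀ r : S, σ (Ideal.Quotient.mk _ r) = Cyc.specMap x ξ h r := fun r => rfl
  have e1 : ∀ w (r : S), Ideal.Quotient.mk _ r = φ' w → stalkLin φ x w = r • gx := fun w r hr => by
    rw [← heG r, hr]
    exact (eG.apply_symm_apply _).symm
  have e2 : ∀ w (r : S), Ideal.Quotient.mk _ r = ψ' w → stalkLin ψ x w = r • gx' := fun w r hr => by
    rw [← heT r, hr]
    exact (eT.apply_symm_apply _).symm
  have key : ∀ w, σ (ψ' w) = σ (φ' w) * X.residue ξ t := by
    intro w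
    obtain ⟨r, hr⟩ := Ideal.Quotient.mk_surjective (φ' w)
    obtain ⟨s, hs⟩ := Ideal.Quotient.mk_surjective (ψ' w)
    have e3 := hrel (W.presheaf.stalkSpecializes h w) (X.presheaf.stalkSpecializes h r) (by
      rw [← Cyc26.stalkLin_natural, e1 w r hr, Cyc26.stalkSpecializes_smul])
    rw [← Cyc26.stalkLin_natural, e2 w s hs, Cyc26.stalkSpecializes_smul] at e3
    have e5 := hm' (X.presheaf.stalkSpecializes h s - X.presheaf.stalkSpecializes h r * t)
      (by rw [sub_smul, e3, sub_self])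
    rw [map_sub, map_mul, sub_eq_zero] at e5
    rw [← hr, ← hs, hσmk, hσmk]
    exact e5
  obtain ⟨w₀, hw₀⟩ : ∃ w₀, φ' w₀ ≠ 0 := by
    obtain ⟨y₀, hy₀⟩ := hφ.2 (G.presheaf.stalkSpecializes h gx)
    obtain ⟨U, hU, hxU, -⟩ := exists_isAffineOpen_mem_and_subset (U := (⊤ : X.Opens)) (x := x) trivial
    have hξU : ξ ∈ U := h.mem_open U.isOpen hxU
    haveI := hW
    obtain ⟨r, m, hr, hrm⟩ := M1.exists_germ_smul_eq W hU hξU y₀
    refine ⟨W.presheaf.germ U x hxU m, fun h0 => ?_⟩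
    have h1 : stalkLin φ x (W.presheaf.germ U x hxU m) = 0 := by
      have := congrArg eG h0
      rwa [map_zero, show eG (φ' _) = stalkLin φ x _ from eG.apply_symm_apply _] at this
    have h2 := congrArg (G.presheaf.stalkSpecializes h) h1
    rw [Cyc26.stalkLin_natural, map_zero, TopCat.Presheaf.germ_stalkSpecializes_apply, ← hrm, map_smul, hy₀] at h2
    exact (hr.map (X.residue ξ).hom).ne_zero (hm _ h2)
  set b := φ' w₀ with hb
  set a := ψ' w₀ with ha
  have hbσ : σ b ≠ 0 := fun h0 => hw₀ (hσ (h0.trans (map_zero σ).symm))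
  have haσ : σ a ≠ 0 := by rw [ha, key]; exact mul_ne_zero hbσ ht
  have ha0 : a ≠ 0 := fun h0 => haσ (by rw [h0, map_zero])
  have hab : ∀ w, a * φ' w = b * ψ' w := fun w => hσ (by
    rw [map_mul, map_mul, ha, key w₀, key w, ← hb]
    ring)
  have hord : ∀ z : R, z ≠ 0 → Cyc.ordAt x ξ h (σ z) = ((Ring.ord R z).toNat : ℤ) ∧ Ring.ord R z < ⊤ := fun z hz => by
    obtain ⟨r, rfl⟩ := Ideal.Quotient.mk_surjective z
    exact Cyc26.ordAt_mk hd h hδ fun hr => hz (Ideal.Quotient.eq_zero_iff_mem.2 hr)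
  haveI : IsDomain R := Ideal.Quotient.isDomain _
  obtain ⟨hker, hlen⟩ := Cyc26.length_coker_sub (A := S) Ideal.Quotient.mk_surjective φ' ψ' ha0 hw₀ w₀ rfl rfl hab
    (hord a ha0).2 (hord b hw₀).2
  constructor
  · rw [Cyc26.length_stalk_kernel, Cyc26.length_stalk_kernel,
      show LinearMap.ker (stalkLin φ x) = LinearMap.ker φ' from (LinearEquiv.ker_comp _ _).symm, hker,
      show LinearMap.ker ψ' = LinearMap.ker (stalkLin ψ x) from LinearEquiv.ker_comp _ _]
  have hq : ∀ {N : Type u} [AddCommGroup N] [Module S N] (e : R ≃ₗ[S] N) (f : W.presheaf.stalk x →ₗ[S] N),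
      Module.length S (N ⧸ LinearMap.range f) = Module.length S (R ⧸ LinearMap.range (e.symm.toLinearMap.comp f)) :=
    fun e f => (Submodule.Quotient.equiv _ _ e.symm (LinearMap.range_comp f e.symm.toLinearMap).symm).length_eq
  rw [Cyc26.length_stalk_cokernel, Cyc26.length_stalk_cokernel, hq eG, hq eT, hlen]
  have hsum : Cyc.ordAt x ξ h (σ a) = Cyc.ordAt x ξ h (σ b) + Cyc.ordAt x ξ h (X.residue ξ t) := by
    rw [ha, key, ← hb]
    exact Cyc26.ordFrac_mul_all hbσ ht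
  rw [(hord a ha0).1, (hord b hw₀).1] at hsum
  linarith

/-- The index of a zigzag supported on the closure of a point, as a function. -/
def indexFun (δ : X → ℤ) (k : ℤ) {W G : X.Modules} (φ : W ⟶ G) : X → ℤ :=
  Cyc.sheafFun δ k (cokernel φ) - Cyc.sheafFun δ k (kernel φ)

/-- The index of a pair is given by the local indices. -/
theorem indexFun_sub (hd : Cyc.IsDimFun X δ) {k : ℤ} {ξ : X} (hξ : δ ξ = k + 1) {W G G' : X.Modules} (φ : W ⟶ G)
    (ψ : W ⟶ G') (hW : SuppPt ξ W) (hG : SuppPt ξ G) (hG' : SuppPt ξ G') {D : X → ℤ}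
    (hD0 : ∀ x, ¬ (ξ ⤳ x ∧ δ x + 1 = δ ξ) → D x = 0)
    (hD : ∀ x, ξ ⤳ x → δ x + 1 = δ ξ →
      Module.length (X.presheaf.stalk x) ((kernel φ).presheaf.stalk x) =
        Module.length (X.presheaf.stalk x) ((kernel ψ).presheaf.stalk x) ∧
      ((Module.length (X.presheaf.stalk x) ((cokernel ψ).presheaf.stalk x)).toNat : ℤ) -
        ((Module.length (X.presheaf.stalk x) ((cokernel φ).presheaf.stalk x)).toNat : ℤ) = D x) :
    indexFun δ k ψ - indexFun δ k φ = D := by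
  funext x
  simp only [indexFun, Pi.sub_apply, Cyc.sheafFun]
  by_cases hδ : δ x = k
  swap
  · simp only [if_neg hδ]
    rw [hD0 x fun h => hδ (by omega)]
    simp
  simp only [if_pos hδ]
  by_cases hs : ξ ⤳ x
  · obtain ⟨e1, e2⟩ := hD x hs (by omega)
    rw [e1]
    linarith
  · have z : ∀ {M : X.Modules}, SuppPt ξ M → Module.length (X.presheaf.stalk x) (M.presheaf.stalk x) = 0 :=
      fun {M} hM => Module.length_eq_zero_iff.2 (not_nontrivial_iff_subsingleton.1 fun hn => hs (hM x hn))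
    rw [hD0 x fun h => hs h.1, z (suppPt_of_epi (cokernel.π ψ) hG'), z (suppPt_of_mono (kernel.ι ψ) hW),
      z (suppPt_of_epi (cokernel.π φ) hG), z (suppPt_of_mono (kernel.ι φ) hW)]
    simp

theorem sheafFun_biprod (hd : Cyc.IsDimFun X δ) {k : ℤ} {A B : X.Modules} (hA : Cyc.CohLe δ k A)
    (hB : Cyc.CohLe δ k B) : Cyc.sheafFun δ k (A ⊞ B) = Cyc.sheafFun δ k A + Cyc.sheafFun δ k B := by
  have hd2 := (cohLe_biprod hA hB).2
  have h := Cyc26.sheafFun_shortExact hd k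
    (T := ShortComplex.mk (biprod.inl : A ⟶ A ⊞ B) (biprod.snd : A ⊞ B ⟶ B) biprod.inl_snd)
    (ShortComplex.Splitting.ofHasBinaryBiproduct A B).shortExact hA.1 hB.1 hd2
  dsimp only at h
  exact h

theorem toK0_biprod {a b : ℤ} {A B : X.Modules} (hA : Cyc.CohLe δ a A) (hB : Cyc.CohLe δ a B) :
    Cyc.toK0CohQuot δ a b (A ⊞ B) = Cyc.toK0CohQuot δ a b A + Cyc.toK0CohQuot δ a b B :=
  toK0_add a b (ShortComplex.Splitting.ofHasBinaryBiproduct A B).shortExact hA (cohLe_biprod hA hB) hB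

theorem cycleSheafNeg_spec (hd : Cyc.IsDimFun X δ) {k : ℤ} (α : AlgebraicCycle X ℤ) (hα : α ∈ Cyc.Zk X δ k) :
    Cyc.CohLe δ k (Cyc.cycleSheafNeg ⇑α) ∧
      Cyc.sheafFun δ k (Cyc.cycleSheafNeg ⇑α) = fun x => if α x < 0 then -α x else 0 := by
  have h : -α ∈ Cyc.Zk X δ k := fun x hx => by
    show -(α x) = 0
    rw [hα x hx, neg_zero]
  obtain ⟨h1, h2⟩ := cycleSheafPos_spec hd (-α) h
  refine ⟨h1, h2.trans (funext fun x => ?_)⟩
  show (if 0 < -α x then -α x else 0) = _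
  simp only [neg_pos]

theorem pos_sub_neg (hd : Cyc.IsDimFun X δ) {k : ℤ} (α : AlgebraicCycle X ℤ) (hα : α ∈ Cyc.Zk X δ k) :
    Cyc.sheafFun δ k (Cyc.cycleSheafPos ⇑α) - Cyc.sheafFun δ k (Cyc.cycleSheafNeg ⇑α) = ⇑α := by
  rw [(cycleSheafPos_spec hd α hα).2, (cycleSheafNeg_spec hd α hα).2]
  funext x
  simp only [Pi.sub_apply]
  split_ifs <;> omega

/-- The class of a locally finite family of zigzags is the class of its index. -/
theorem zigzag_class (hd : Cyc.IsDimFun X δ) {k : ℤ} {J : Type u} (ξ : J → X) (hξ : ∀ j, δ (ξ j) = k + 1)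
    (hlf : ∀ x : X, ∃ W : Set X, IsOpen W ∧ x ∈ W ∧ {j | ξ j ∈ W}.Finite) (G G' N : J → X.Modules)
    (hG : ∀ j, Coh.IsCoh (G j)) (hG' : ∀ j, Coh.IsCoh (G' j)) (hN : ∀ j, Coh.IsCoh (N j))
    (sG : ∀ j, SuppPt (ξ j) (G j)) (sG' : ∀ j, SuppPt (ξ j) (G' j)) (sN : ∀ j, SuppPt (ξ j) (N j))
    (a : ∀ j, N j ⟶ G j) (b : ∀ j, N j ⟶ G' j) (ha : ∀ j, Function.Bijective (stalkLin (a j) (ξ j)))
    (hb : ∀ j, Function.Bijective (stalkLin (b j) (ξ j))) (γ : AlgebraicCycle X ℤ) (hγ : γ ∈ Cyc.Zk X δ k)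
    (hsum : ∀ x, γ x = ∑ᶠ j, (indexFun δ k (b j) - indexFun δ k (a j)) x) :
    Cyc.toK0CohQuot δ (k + 1) (k - 1) (∐ G') - Cyc.toK0CohQuot δ (k + 1) (k - 1) (∐ G) =
      Cyc.toK0CohQuot δ (k + 1) (k - 1) (Cyc.cycleSheafPos ⇑γ) -
        Cyc.toK0CohQuot δ (k + 1) (k - 1) (Cyc.cycleSheafNeg ⇑γ) := by
  have hlfF : ∀ {F : J → X.Modules}, (∀ j, SuppPt (ξ j) (F j)) → KSwindle.LocFin F := fun {F} hs =>
    locFin_of ξ hs fun x => by
      obtain ⟨W, hW, hx, hfin⟩ := hlf x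
      exact ⟨W, hW, hx, hfin.subset fun j hj => hj.1⟩
  have top : ∀ {F : J → X.Modules}, (∀ j, Coh.IsCoh (F j)) → (∀ j, SuppPt (ξ j) (F j)) →
      Cyc.CohLe δ (k + 1) (∐ F) := fun hc hs =>
    cohLe_sigma (hlfF hs) fun j => cohLe_of_suppPt hd (hc j) (hs j) (hξ j).le
  have kc : ∀ {M : J → X.Modules} (φ : ∀ j, N j ⟶ M j), (∀ j, Coh.IsCoh (M j)) → (∀ j, SuppPt (ξ j) (M j)) →
      (∀ j, Function.Bijective (stalkLin (φ j) (ξ j))) →
      Cyc.CohLe δ k (∐ fun j => kernel (φ j)) ∧ Cyc.CohLe δ k (∐ fun j => cokernel (φ j)) ∧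
      (∀ x, Cyc.sheafFun δ k (∐ fun j => kernel (φ j)) x = ∑ᶠ j, Cyc.sheafFun δ k (kernel (φ j)) x) ∧
      (∀ x, Cyc.sheafFun δ k (∐ fun j => cokernel (φ j)) x = ∑ᶠ j, Cyc.sheafFun δ k (cokernel (φ j)) x) ∧
      Cyc.toK0CohQuot δ (k + 1) (k - 1) (∐ M) = Cyc.toK0CohQuot δ (k + 1) (k - 1) (∐ N) +
        Cyc.toK0CohQuot δ (k + 1) (k - 1) (∐ fun j => cokernel (φ j)) -
        Cyc.toK0CohQuot δ (k + 1) (k - 1) (∐ fun j => kernel (φ j)) := by
    intro M φ hM sM hφ
    have cK : ∀ j, Coh.IsCoh (kernel (φ j)) := fun j => M1.isCoh_kernel (hN j) (hM j).1 _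
    have cC : ∀ j, Coh.IsCoh (cokernel (φ j)) := fun j => M1.isCoh_cokernel (hN j).1 (hM j) _
    have sK : ∀ j, SuppPt (ξ j) (kernel (φ j)) := fun j => suppPt_of_mono (kernel.ι _) (sN j)
    have sC : ∀ j, SuppPt (ξ j) (cokernel (φ j)) := fun j => suppPt_of_epi (cokernel.π _) (sM j)
    have cI : ∀ j, Coh.IsCoh (Abelian.image (φ j)) := fun j => M1.isCoh_kernel (hM j) (cC j).1 _
    have sI : ∀ j, SuppPt (ξ j) (Abelian.image (φ j)) := fun j => suppPt_of_mono (Abelian.image.ι _) (sM j)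
    have hle : ∀ {F : J → X.Modules}, (∀ j, Coh.IsCoh (F j)) → (∀ j, SuppPt (ξ j) (F j)) →
        (∀ j, ∀ a : (F j).presheaf.stalk (ξ j), a = 0) → ∀ j, Cyc.CohLe δ k (F j) := fun hc hs h0 j =>
      ⟨hc j, fun y hy => by
        rcases eq_or_ne y (ξ j) with rfl | hne
        · exact absurd (subsingleton_of_forall_eq 0 (h0 j)) (not_subsingleton_iff_nontrivial.2 hy)
        · have := (hd (ξ j) y (hs j y hy) (Ne.symm hne)).1
          have := hξ j
          omega⟩
    have lK := hle cK sK fun j => CurveCoh17.eq_zero_stalk_kernel (φ j) (ξ j) (hφ j).1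
    have lC := hle cC sC fun j => CurveCoh17.eq_zero_stalk_cokernel (φ j) (ξ j) (hφ j).2
    refine ⟨cohLe_sigma (hlfF sK) lK, cohLe_sigma (hlfF sC) lC, sheafFun_sigma hd (hlfF sK) lK,
      sheafFun_sigma hd (hlfF sC) lC, ?_⟩
    have e1 := toK0_add (k + 1) (k - 1) (KSwindle.shortExact_sigma.{u}
      (fun j => ShortComplex.mk (kernel.ι (φ j)) (Abelian.factorThruImage (φ j))
        (by rw [← cancel_mono (Abelian.image.ι (φ j))]; simp)) fun j => K0Cat.shortExact_kernel_image (φ j))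
      (top cK sK) (top hN sN) (top cI sI)
    have e2 := toK0_add (k + 1) (k - 1) (KSwindle.shortExact_sigma.{u}
      (fun j => ShortComplex.mk (Abelian.image.ι (φ j)) (cokernel.π (φ j)) (kernel.condition _)) fun j =>
        ShortComplex.ShortExact.mk' (ShortComplex.exact_of_f_is_kernel _ (kernelIsKernel _)) inferInstance inferInstance)
      (top cI sI) (top hM sM) (top cC sC)
    dsimp only at e1 e2
    rw [e2, e1]
    abel
  obtain ⟨K1, C1, fK1, fC1, e1⟩ := kc a hG sG ha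
  obtain ⟨K2, C2, fK2, fC2, e2⟩ := kc b hG' sG' hb
  obtain ⟨P0, -⟩ := cycleSheafPos_spec hd γ hγ
  obtain ⟨M0, -⟩ := cycleSheafNeg_spec hd γ hγ
  have hh := pos_sub_neg hd γ hγ
  have hfun : ∀ x, γ x = Cyc.sheafFun δ k (∐ fun j => cokernel (b j)) x - Cyc.sheafFun δ k (∐ fun j => kernel (b j)) x -
      (Cyc.sheafFun δ k (∐ fun j => cokernel (a j)) x - Cyc.sheafFun δ k (∐ fun j => kernel (a j)) x) := by
    intro x
    obtain ⟨W, hW, hx, hfin⟩ := hlf x
    have hsupp : ∀ {F : J → X.Modules}, (∀ j, SuppPt (ξ j) (F j)) →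
        (Function.support fun j => Cyc.sheafFun δ k (F j) x) ⊆ ↑hfin.toFinset := fun {F} hs j hj => by
      refine hfin.mem_toFinset.2 ((hs j x ?_).mem_open hW hx)
      by_contra hn
      refine hj ?_
      simp only [Cyc.sheafFun, Module.length_eq_zero_iff.2 (not_nontrivial_iff_subsingleton.1 hn)]
      simp
    have s1 := hsupp (fun j => suppPt_of_epi (cokernel.π (b j)) (sG' j))
    have s2 := hsupp (fun j => suppPt_of_mono (kernel.ι (b j)) (sN j))
    have s3 := hsupp (fun j => suppPt_of_epi (cokernel.π (a j)) (sG j))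
    have s4 := hsupp (fun j => suppPt_of_mono (kernel.ι (a j)) (sN j))
    rw [hsum, fC2, fK2, fC1, fK1, finsum_eq_sum_of_support_subset _ s1, finsum_eq_sum_of_support_subset _ s2,
      finsum_eq_sum_of_support_subset _ s3, finsum_eq_sum_of_support_subset _ s4,
      finsum_eq_sum_of_support_subset _ (s := hfin.toFinset) ?_, ← Finset.sum_sub_distrib, ← Finset.sum_sub_distrib,
      ← Finset.sum_sub_distrib]
    · rfl
    intro j hj
    by_contra hn
    refine hj ?_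
    simp only [indexFun, Pi.sub_apply]
    rw [Function.notMem_support.1 fun h => hn (s1 h), Function.notMem_support.1 fun h => hn (s2 h),
      Function.notMem_support.1 fun h => hn (s3 h), Function.notMem_support.1 fun h => hn (s4 h)]
    simp
  have key := (isChar_toK0 (δ := δ) (a := k + 1) (b := k - 1) (by omega) le_rfl).congr hd
    (cohLe_biprod P0 (cohLe_biprod C1 K2)) (cohLe_biprod M0 (cohLe_biprod C2 K1)) (by
      rw [sheafFun_biprod hd P0 (cohLe_biprod C1 K2), sheafFun_biprod hd C1 K2,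
        sheafFun_biprod hd M0 (cohLe_biprod C2 K1), sheafFun_biprod hd C2 K1]
      funext x
      have h1 := congrFun hh x
      have h2 := hfun x
      simp only [Pi.add_apply, Pi.sub_apply] at h1 ⊢
      linarith)
  have up : ∀ {F : X.Modules}, Cyc.CohLe δ k F → Cyc.CohLe δ (k + 1) F := fun h => cohLe_mono (by omega) h
  rw [toK0_biprod (up P0) (up (cohLe_biprod C1 K2)), toK0_biprod (up C1) (up K2),
    toK0_biprod (up M0) (up (cohLe_biprod C2 K1)), toK0_biprod (up C2) (up K1)] at key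
  rw [e1, e2, eq_sub_of_add_eq key]
  abel

end Groth.Agent.Vol26
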