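import Groth.Agent.Lib.Vol26.CycleSheaf
import Groth.Agent.Lib.KSwindle.Closed
import Groth.Agent.Lib.Cyc26.Stalk
import Groth.Agent.Lib.Vol26.Stalks
import Groth.Agent.Lib.Cyc26.ZigzagStalk

/-! # Locally finite sums of coherent modules of bounded dimension -/

set_option autoImplicit false
set_option linter.style.haveILetI false

universe u

open CategoryTheory CategoryTheory.Limits AlgebraicGeometry TopologicalSpace

set_option backward.isDefEq.respectTransparency false
set_option backward.isDefEq.respectTransparency.types false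

noncomputable section

namespace Groth.Agent.Vol26

open CurveCoh17 (stalkLin)
open scoped Classical

variable {X : Scheme.{u}}

instance : AB4OfSize.{u} X.Modules :=
  haveI := Abelian.hasFiniteBiproducts (C := X.Modules)
  AB4.of_AB5 X.Modules

/-- The projection from a sum to one of its terms. -/
def sigProj {J : Type u} (f : J → X.Modules) (j : J) : ∐ f ⟶ f j :=
  Sigma.desc fun i => if h : i = j then eqToHom (by rw [h]) else 0

theorem sigProj_ι_apply {J : Type u} (f : J → X.Modules) (y : X) (i j : J) (a : (f i).presheaf.stalk y) :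
    stalkLin (sigProj f j) y (stalkLin (Sigma.ι f i) y a) = if h : i = j then h ▸ a else 0 := by
  rw [← InjMod.stalkLin_comp_apply, sigProj, Sigma.ι_desc]
  split_ifs with h
  · subst h
    exact InjMod.stalkLin_id_apply _ y a
  · exact InjMod.stalkLin_zero_apply _ _ y a

/-- A stalk element of a sum is the sum of finitely many of its components. -/
theorem sigma_stalk_eq {J : Type u} (f : J → X.Modules) (y : X) (a : (∐ f).presheaf.stalk y) :
    ∃ T : Finset J, (∀ j ∉ T, stalkLin (sigProj f j) y a = 0) ∧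
      a = ∑ j ∈ T, stalkLin (Sigma.ι f j) y (stalkLin (sigProj f j) y a) := by
  have ha := InjMod.iSup_range_stalk_ι f y ▸ Submodule.mem_top (x := a)
  obtain ⟨c, hc, rfl⟩ := (Submodule.mem_iSup_iff_exists_finsupp _ _).1 ha
  choose b hb using fun j => hc j
  have hp : ∀ j, stalkLin (sigProj f j) y (c.sum fun _ m => m) = if j ∈ c.support then b j else 0 := by
    intro j
    rw [Finsupp.sum, map_sum, Finset.sum_congr rfl fun i _ => show stalkLin (sigProj f j) y (c i) =
      (if h : i = j then h ▸ b i else 0) by rw [← hb i, sigProj_ι_apply]]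
    rw [Finset.sum_dite_eq']
  refine ⟨c.support, fun j hj => by rw [hp, if_neg hj], ?_⟩
  exact Finset.sum_congr rfl fun j hj => by rw [hp, if_pos hj, hb]

/-- Stalk elements of a sum are determined by their components. -/
theorem sigma_stalk_ext {J : Type u} (f : J → X.Modules) (y : X) {a b : (∐ f).presheaf.stalk y}
    (h : ∀ j, stalkLin (sigProj f j) y a = stalkLin (sigProj f j) y b) : a = b := by
  obtain ⟨T, -, e⟩ := sigma_stalk_eq f y (a - b)
  rw [← sub_eq_zero, e]
  exact Finset.sum_eq_zero fun j _ => by rw [map_sub (stalkLin (sigProj f j) y), h j, sub_self, map_zero]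

/-- A point where only one summand is nonzero. -/
theorem bijective_stalk_desc_single {J : Type u} (f : J → X.Modules) (y : X) (j : J)
    (hs : ∀ i, i ≠ j → Subsingleton ((f i).presheaf.stalk y)) {B : X.Modules} (φ : ∀ i, f i ⟶ B)
    (hφ : Function.Bijective (stalkLin (φ j) y)) : Function.Bijective (stalkLin (Sigma.desc φ) y) := by
  have hd : ∀ i b, stalkLin (Sigma.desc φ) y (stalkLin (Sigma.ι f i) y b) = stalkLin (φ i) y b := fun i b => by
    rw [← InjMod.stalkLin_comp_apply, Sigma.ι_desc]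
  have hone : ∀ a, a = stalkLin (Sigma.ι f j) y (stalkLin (sigProj f j) y a) := fun a =>
    sigma_stalk_ext f y fun i => by
      rw [sigProj_ι_apply]
      by_cases h : j = i
      · subst h; rw [dif_pos rfl]
      · haveI := hs i (Ne.symm h)
        exact Subsingleton.elim _ _
  refine ⟨fun a b h => ?_, fun c => ?_⟩
  · rw [hone a, hone b, hd, hd] at h
    rw [hone a, hone b, hφ.1 h]
  · obtain ⟨b, rfl⟩ := hφ.2 c
    exact ⟨_, hd j b⟩

/-- A map of sums along an injective map of indices, off whose range the target vanishes. -/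
theorem bijective_stalk_reindex {J J' : Type u} (f : J → X.Modules) (g : J' → X.Modules) (y : X) (e : J → J')
    (he : Function.Injective e) (hr : ∀ j', j' ∉ Set.range e → Subsingleton ((g j').presheaf.stalk y))
    (φ : ∀ j, f j ⟶ g (e j)) (hφ : ∀ j, Function.Bijective (stalkLin (φ j) y)) :
    Function.Bijective (stalkLin (Sigma.desc fun j => φ j ≫ Sigma.ι g (e j)) y) := by
  set D := Sigma.desc fun j => φ j ≫ Sigma.ι g (e j)
  have hd : ∀ i b, stalkLin D y (stalkLin (Sigma.ι f i) y b) = stalkLin (Sigma.ι g (e i)) y (stalkLin (φ i) y b) :=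
    fun i b => by rw [← InjMod.stalkLin_comp_apply, ← InjMod.stalkLin_comp_apply, Sigma.ι_desc]
  have hcomp : ∀ j (a : (∐ f).presheaf.stalk y),
      stalkLin (sigProj g (e j)) y (stalkLin D y a) = stalkLin (φ j) y (stalkLin (sigProj f j) y a) := by
    intro j a
    obtain ⟨T, -, ha⟩ := sigma_stalk_eq f y a
    rw [ha]
    simp only [map_sum]
    refine Finset.sum_congr rfl fun i _ => ?_
    rw [hd, sigProj_ι_apply, sigProj_ι_apply]
    by_cases h : i = j
    · subst h; rw [dif_pos rfl, dif_pos rfl]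
    · rw [dif_neg fun h' => h (he h'), dif_neg h, map_zero]
  refine ⟨fun a b h => sigma_stalk_ext f y fun j => (hφ j).1 ?_, fun c => ?_⟩
  · rw [← hcomp, ← hcomp, h]
  · obtain ⟨T, -, hc⟩ := sigma_stalk_eq g y c
    rw [hc, ← LinearMap.mem_range]
    refine Submodule.sum_mem _ fun j' _ => ?_
    by_cases h : j' ∈ Set.range e
    · obtain ⟨j, rfl⟩ := h
      obtain ⟨b, hb⟩ := (hφ j).2 (stalkLin (sigProj g (e j)) y c)
      exact ⟨stalkLin (Sigma.ι f j) y b, by rw [hd, hb]⟩
    · haveI := hr j' h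
      rw [Subsingleton.elim (stalkLin (sigProj g j') y c) 0, map_zero]
      exact zero_mem _

/-- Supported in the closure of a point. -/
def SuppPt (ξ : X) (F : X.Modules) : Prop := ∀ y : X, Nontrivial (F.presheaf.stalk y) → ξ ⤳ y

theorem suppPt_of_mono {ξ : X} {F G : X.Modules} (i : F ⟶ G) [Mono i] (h : SuppPt ξ G) : SuppPt ξ F := fun y hy =>
  have hi : Function.Injective (stalkLin i y) := (M1.mono_iff_stalk i).1 inferInstance y
  h y hi.nontrivial

theorem suppPt_of_epi {ξ : X} {F G : X.Modules} (p : F ⟶ G) [Epi p] (h : SuppPt ξ F) : SuppPt ξ G := fun y hy =>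
  have hp : Function.Surjective (stalkLin p y) := (M1.epi_iff_stalk p).1 inferInstance y
  h y hp.nontrivial

theorem suppPt_closureStructureSheaf (η : X) : SuppPt η (Cyc.closureStructureSheaf η) := fun _ h =>
  specializes_of_nontrivial h

theorem SuppPt.subsingleton {δ : X → ℤ} (hd : Cyc.IsDimFun X δ) {ξ : X} {F : X.Modules} (h : SuppPt ξ F) {y : X}
    (hy : y ≠ ξ) (hδ : δ ξ ≤ δ y) : Subsingleton (F.presheaf.stalk y) := not_nontrivial_iff_subsingleton.1 fun hn => by
  have := (hd ξ y (h y hn) (Ne.symm hy)).1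
  omega

theorem cohLe_of_suppPt {δ : X → ℤ} (hd : Cyc.IsDimFun X δ) {ξ : X} {F : X.Modules} (hF : Coh.IsCoh F)
    (h : SuppPt ξ F) {k : ℤ} (hξ : δ ξ ≤ k) : Cyc.CohLe δ k F := ⟨hF, fun y hy => by
  rcases eq_or_ne ξ y with rfl | hne
  · exact hξ
  · have := (hd ξ y (h y hy) hne).1
    omega⟩

theorem cohLe_mono {δ : X → ℤ} {k k' : ℤ} (h : k ≤ k') {F : X.Modules} (hF : Cyc.CohLe δ k F) : Cyc.CohLe δ k' F :=
  ⟨hF.1, fun y hy => (hF.2 y hy).trans h⟩

/-- A criterion for local finiteness of a family of modules supported on closures of points. -/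
theorem locFin_of {J : Type u} {f : J → X.Modules} (p : J → X) (hsupp : ∀ j, SuppPt (p j) (f j))
    (hfin : ∀ x : X, ∃ W : Set X, IsOpen W ∧ x ∈ W ∧
      {j | p j ∈ W ∧ ∃ y, Nontrivial ((f j).presheaf.stalk y)}.Finite) : KSwindle.LocFin f := by
  intro x
  obtain ⟨W, hW, hxW, hf⟩ := hfin x
  refine ⟨W, hW.mem_nhds hxW, hf.subset ?_⟩
  rintro j ⟨y, hy, hyW⟩
  have hn : Nontrivial ((f j).presheaf.stalk y) := not_subsingleton_iff_nontrivial.1 hy
  exact ⟨(hsupp j y hn).mem_open hW hyW, y, hn⟩

theorem finite_nontrivial_of_locFin {J : Type u} {f : J → X.Modules} (hf : KSwindle.LocFin f) (y : X) :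
    {j | Nontrivial ((f j).presheaf.stalk y)}.Finite := by
  obtain ⟨t, ht, hfin⟩ := hf y
  exact hfin.subset fun j hj => ⟨y, not_subsingleton_iff_nontrivial.2 hj, mem_of_mem_nhds ht⟩

variable [IsLocallyNoetherian X] {δ : X → ℤ}

theorem cohLe_sigma {k : ℤ} {J : Type u} {f : J → X.Modules} (hf : KSwindle.LocFin f)
    (h : ∀ j, Cyc.CohLe δ k (f j)) : Cyc.CohLe δ k (∐ f) :=
  ⟨KSwindle.isCoh_sigma hf fun j => (h j).1, fun y hy => by
    obtain ⟨j, hj⟩ := exists_nontrivial_of_sigma f y hy
    exact (h j).2 y hj⟩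

/-- The cycle of a locally finite sum. -/
theorem sheafFun_sigma (hd : Cyc.IsDimFun X δ) {k : ℤ} {J : Type u} {f : J → X.Modules} (hf : KSwindle.LocFin f)
    (h : ∀ j, Cyc.CohLe δ k (f j)) (y : X) :
    Cyc.sheafFun δ k (∐ f) y = ∑ᶠ j, Cyc.sheafFun δ k (f j) y := by
  simp only [Cyc.sheafFun]
  split_ifs with hy
  swap
  · exact finsum_zero.symm
  let S := (finite_nontrivial_of_locFin hf y).toFinset
  have hfinl : ∀ j, Module.length (X.presheaf.stalk y) ((f j).presheaf.stalk y) ≠ ⊤ := fun j =>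
    Cyc26.length_stalk_ne_top (h j).1 fun z hz hzy => by
      by_contra hne
      have := (hd z y hzy hne).1
      have := (h j).2 z hz
      omega
  rw [length_stalk_sigma f y S (fun j hj => (finite_nontrivial_of_locFin hf y).mem_toFinset.2 hj),
    ENat.toNat_sum (fun j _ => hfinl j), finsum_eq_sum_of_support_subset _ (s := S)]
  · push_cast; rfl
  · intro j hj
    by_contra hn
    rw [Finset.mem_coe, (finite_nontrivial_of_locFin hf y).mem_toFinset] at hn
    haveI : Subsingleton ((f j).presheaf.stalk y) := not_nontrivial_iff_subsingleton.1 hn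
    exact hj (by simp)

omit [IsLocallyNoetherian X] in
theorem sheafFun_nonneg (k : ℤ) (F : X.Modules) (y : X) : 0 ≤ Cyc.sheafFun δ k F y := by
  simp only [Cyc.sheafFun]
  split_ifs
  · exact Int.natCast_nonneg _
  · exact le_rfl

theorem exists_nhd_finite (hd : Cyc.IsDimFun X δ) {k : ℤ} {F : X.Modules} (hF : Cyc.CohLe δ k F) (x : X) :
    ∃ W : Set X, IsOpen W ∧ x ∈ W ∧ {ξ | δ ξ = k ∧ Nontrivial (F.presheaf.stalk ξ) ∧ ξ ∈ W}.Finite := by
  obtain ⟨U, hU, hxU, -⟩ := exists_isAffineOpen_mem_and_subset (U := (⊤ : X.Opens)) (x := x) trivial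
  refine ⟨U, U.isOpen, hxU, ?_⟩
  have := finite_generic hd hF.1 (k := k - 1) (fun y hy => by have := hF.2 y hy; omega) hU
  simpa using this

omit [IsLocallyNoetherian X] in
theorem sheafFun_eq_zero_of_cohLe {k k' : ℤ} {F : X.Modules} (hF : Cyc.CohLe δ k' F) (h : k' < k) :
    Cyc.sheafFun δ k F = 0 := by
  funext y
  simp only [Cyc.sheafFun]
  split_ifs with hy
  · haveI : Subsingleton (F.presheaf.stalk y) := not_nontrivial_iff_subsingleton.1 fun hn => by
      have := hF.2 y hn
      omega
    simp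
  · rfl

theorem cohLe_biprod {k : ℤ} {A B : X.Modules} (hA : Cyc.CohLe δ k A) (hB : Cyc.CohLe δ k B) :
    Cyc.CohLe δ k (A ⊞ B) := by
  refine ⟨M1.isCoh_biprod hA.1 hB.1, fun y hy => ?_⟩
  by_contra hlt
  haveI : Subsingleton (A.presheaf.stalk y) := not_nontrivial_iff_subsingleton.1 fun hn => hlt (hA.2 y hn)
  haveI : Subsingleton (B.presheaf.stalk y) := not_nontrivial_iff_subsingleton.1 fun hn => hlt (hB.2 y hn)
  obtain ⟨-, he, -⟩ := Cyc26.stalkLin_exact
    (ShortComplex.Splitting.ofHasBinaryBiproduct A B).shortExact y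
  refine not_subsingleton_iff_nontrivial.2 hy (subsingleton_of_forall_eq 0 fun a => ?_)
  obtain ⟨b, hb⟩ := (he a).1 (Subsingleton.elim (α := B.presheaf.stalk y) _ _)
  rw [← hb, Subsingleton.elim (α := A.presheaf.stalk y) b 0, map_zero]

end Groth.Agent.Vol26
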