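import Groth.Agent.Lib.InjMod.GenSum
import Groth.Agent.Lib.KSwindle.LocFin
import Groth.Agent.Lib.NumPoly18.Euler
import Groth.Agent.Lib.CohFound.ClosedImmPush
import Groth.Prelude.Def_ChowK

/-! # The sheaf of a positive cycle -/

set_option autoImplicit false
set_option linter.style.haveILetI false

universe u

open CategoryTheory CategoryTheory.Limits AlgebraicGeometry TopologicalSpace

set_option backward.isDefEq.respectTransparency false
set_option backward.isDefEq.respectTransparency.types false

noncomputable section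

namespace Groth.Agent.Vol26

open CurveCoh17 (stalkLin)

variable {X : Scheme.{u}}

theorem isCoh_closureStructureSheaf [IsLocallyNoetherian X] (η : X) :
    Coh.IsCoh (Cyc.closureStructureSheaf η) :=
  CohFound.isCoh_push_closedImm _ (M1.isCoh_structureModule _)

theorem specializes_of_nontrivial {η y : X} (h : Nontrivial ((Cyc.closureStructureSheaf η).presheaf.stalk y)) :
    η ⤳ y :=
  specializes_iff_mem_closure.2 (NumPoly18.support_ptMod η (not_subsingleton_iff_nontrivial.2 h))

theorem length_closureStructureSheaf_self [IsLocallyNoetherian X] (η : X) :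
    Module.length (X.presheaf.stalk η) ((Cyc.closureStructureSheaf η).presheaf.stalk η) = 1 := by
  obtain ⟨hI, z, hz, hzη⟩ := NumPoly18.isIntegral_pt η
  haveI := hI
  obtain rfl := (genericPoint_spec _).eq hz
  obtain ⟨g, hg, hgen, hkill⟩ :=
    CohFound.exists_cyclic_push_structureModule (NumPoly18.ptIdeal η).subschemeι
  have hs : IsSimpleModule (X.presheaf.stalk ((NumPoly18.ptIdeal η).subschemeι (genericPoint (NumPoly18.ptIdeal η).subscheme)))
      ((NumPoly18.ptMod η).presheaf.stalk ((NumPoly18.ptIdeal η).subschemeι (genericPoint (NumPoly18.ptIdeal η).subscheme))) := by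
    haveI : Nontrivial ((NumPoly18.ptMod η).presheaf.stalk
        ((NumPoly18.ptIdeal η).subschemeι (genericPoint (NumPoly18.ptIdeal η).subscheme))) :=
      ⟨g, 0, hg⟩
    refine isSimpleModule_iff_toSpanSingleton_surjective.2 ⟨inferInstance, fun x hx b => ?_⟩
    obtain ⟨c, rfl⟩ := hgen x
    obtain ⟨d, rfl⟩ := hgen b
    have hu : IsUnit c := by
      by_contra h
      exact hx (hkill c ((IsLocalRing.mem_maximalIdeal c).2 h) g)
    refine ⟨d * ↑hu.unit⁻¹, ?_⟩
    rw [LinearMap.toSpanSingleton_apply, smul_smul, mul_assoc, IsUnit.val_inv_mul, mul_one]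
  rw [hzη] at hs
  exact Module.length_eq_one (X.presheaf.stalk η) ((NumPoly18.ptMod η).presheaf.stalk η)

/-- The stalk of a sum with finitely many nonzero summands at a point. -/
theorem length_stalk_sigma {J : Type u} (f : J → X.Modules) (y : X) (S : Finset J)
    (hS : ∀ j, Nontrivial ((f j).presheaf.stalk y) → j ∈ S) :
    Module.length (X.presheaf.stalk y) ((∐ f).presheaf.stalk y) =
      ∑ j ∈ S, Module.length (X.presheaf.stalk y) ((f j).presheaf.stalk y) := by
  classical
  let π : ∀ j, ∐ f ⟶ f j := fun j => Sigma.desc fun i => if h : i = j then eqToHom (by rw [h]) else 0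
  have hπ : ∀ i j (a : (f i).presheaf.stalk y), stalkLin (π j) y (stalkLin (Sigma.ι f i) y a) =
      if h : i = j then h ▸ a else 0 := by
    intro i j a
    rw [← InjMod.stalkLin_comp_apply, Sigma.ι_desc]
    split_ifs with h
    · subst h
      exact InjMod.stalkLin_id_apply _ y a
    · exact InjMod.stalkLin_zero_apply _ _ y a
  let Φ : (∐ f).presheaf.stalk y →ₗ[X.presheaf.stalk y] (∀ j : S, (f j.1).presheaf.stalk y) :=
    LinearMap.pi fun j => stalkLin (π j.1) y
  let Ψ : (∀ j : S, (f j.1).presheaf.stalk y) →ₗ[X.presheaf.stalk y] (∐ f).presheaf.stalk y :=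
    ∑ j : S, stalkLin (Sigma.ι f j.1) y ∘ₗ LinearMap.proj j
  have h1 : ∀ a, Ψ (Φ a) = a := by
    intro a
    have ha := InjMod.iSup_range_stalk_ι f y ▸ Submodule.mem_top (x := a)
    refine Submodule.iSup_induction _ (motive := fun a => Ψ (Φ a) = a) ha (fun i t => ?_) (by rw [map_zero, map_zero])
      fun t t' ht ht' => by rw [map_add, map_add, ht, ht']
    rintro ⟨b, rfl⟩
    simp only [Φ, Ψ, LinearMap.coe_sum, Finset.sum_apply, LinearMap.comp_apply, LinearMap.proj_apply,
      LinearMap.pi_apply, hπ]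
    by_cases hi : i ∈ S
    · rw [Finset.sum_eq_single ⟨i, hi⟩ (fun j _ hj => by
        rw [dif_neg fun h => hj (Subtype.ext h.symm), map_zero]) (fun h => (h (Finset.mem_univ _)).elim), dif_pos rfl]
    · haveI : Subsingleton ((f i).presheaf.stalk y) := not_nontrivial_iff_subsingleton.1 fun h => hi (hS i h)
      rw [Subsingleton.elim b 0, map_zero]
      exact Finset.sum_eq_zero fun j _ => by
        rw [dif_neg (fun h => hi (by rw [h]; exact j.2) : ¬ i = j.1), map_zero]
  have h2 : ∀ v, Φ (Ψ v) = v := by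
    intro v
    funext j
    simp only [Φ, Ψ, LinearMap.coe_sum, Finset.sum_apply, LinearMap.comp_apply, LinearMap.proj_apply,
      LinearMap.pi_apply, map_sum, hπ]
    rw [Finset.sum_eq_single j (fun i _ hi => dif_neg fun h => hi (Subtype.ext h))
      (fun h => (h (Finset.mem_univ _)).elim), dif_pos rfl]
  let e : (∐ f).presheaf.stalk y ≃ₗ[X.presheaf.stalk y] (∀ j : S, (f j.1).presheaf.stalk y) :=
    { Φ with invFun := Ψ, left_inv := h1, right_inv := h2 }
  rw [e.length_eq, Module.length_pi_of_fintype,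
    Finset.sum_coe_sort S fun j => Module.length (X.presheaf.stalk y) ((f j).presheaf.stalk y)]

theorem exists_nontrivial_of_sigma {J : Type u} (f : J → X.Modules) (y : X)
    (h : Nontrivial ((∐ f).presheaf.stalk y)) : ∃ j, Nontrivial ((f j).presheaf.stalk y) := by
  by_contra hn
  push_neg at hn
  have hl := length_stalk_sigma f y ∅ fun j hj => absurd hj (not_nontrivial_iff_subsingleton.2 (hn j))
  rw [Finset.sum_empty, Module.length_eq_zero_iff] at hl
  exact not_subsingleton _ hl

open scoped Classical in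
/-- The sheaf of the positive part of a cycle. -/
theorem cycleSheafPos_spec [IsLocallyNoetherian X] {δ : X → ℤ} (hd : Cyc.IsDimFun X δ) {k : ℤ}
    (α : AlgebraicCycle X ℤ) (hα : α ∈ Cyc.Zk X δ k) :
    Cyc.CohLe δ k (Cyc.cycleSheafPos ⇑α) ∧
      Cyc.sheafFun δ k (Cyc.cycleSheafPos ⇑α) = fun x => if 0 < α x then α x else 0 := by
  set J := Σ ζ : {ζ : X // 0 < α ζ}, Fin (α ζ.1).toNat
  set f : J → X.Modules := fun i => Cyc.closureStructureSheaf i.1.1
  have hk : ∀ i : J, δ i.1.1 = k := fun i => by
    by_contra h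
    exact (ne_of_gt i.1.2) (hα _ h)
  have hlf : KSwindle.LocFin f := by
    intro x
    obtain ⟨t, ht, hfin⟩ := α.supportLocallyFiniteWithinDomain' x (Set.mem_univ x)
    obtain ⟨W, hWt, hW, hxW⟩ := mem_nhds_iff.1 ht
    refine ⟨W, hW.mem_nhds hxW, ?_⟩
    refine ((hfin.preimage (Subtype.val_injective (p := fun ζ => 0 < α ζ)).injOn).biUnion
      fun ζ _ => Set.finite_range fun n => (⟨ζ, n⟩ : J)).subset ?_
    rintro ⟨ζ, n⟩ ⟨y, hy, hyW⟩
    refine Set.mem_biUnion (x := ζ) ⟨hWt ?_, ne_of_gt ζ.2⟩ ⟨n, rfl⟩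
    exact (specializes_of_nontrivial (not_subsingleton_iff_nontrivial.1 hy)).mem_open hW hyW
  refine ⟨⟨KSwindle.isCoh_sigma hlf fun i => isCoh_closureStructureSheaf _, fun y hy => ?_⟩, ?_⟩
  · obtain ⟨i, hi⟩ := exists_nontrivial_of_sigma f y hy
    rcases eq_or_ne i.1.1 y with h | h
    · rw [← h, hk]
    · have := (hd i.1.1 y (specializes_of_nontrivial hi) h).1
      have := hk i
      omega
  funext y
  simp only [Cyc.sheafFun]
  have hS : ∀ j : J, Nontrivial ((f j).presheaf.stalk y) → δ y = k → j.1.1 = y := fun j hj hy => by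
    by_contra h
    have := (hd j.1.1 y (specializes_of_nontrivial hj) h).1
    have := hk j
    omega
  split_ifs with hy hpos hpos
  · let S : Finset J := (Finset.univ : Finset (Fin (α y).toNat)).map
      ⟨fun n => ⟨⟨y, hpos⟩, n⟩, fun a b h => eq_of_heq (Sigma.mk.inj h).2⟩
    show ((Module.length (X.presheaf.stalk y) ((∐ f).presheaf.stalk y)).toNat : ℤ) = _
    rw [length_stalk_sigma f y S fun j hj => by
      obtain ⟨⟨ζ, hζ⟩, n⟩ := j
      obtain rfl : ζ = y := hS _ hj hy
      exact Finset.mem_map.2 ⟨n, Finset.mem_univ _, rfl⟩]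
    simp only [S, Finset.sum_map, f]
    show ((∑ _n : Fin (α y).toNat, Module.length (X.presheaf.stalk y) ((Cyc.closureStructureSheaf y).presheaf.stalk y)).toNat : ℤ) = _
    rw [length_closureStructureSheaf_self, Finset.sum_const, Finset.card_univ, Fintype.card_fin, nsmul_one]
    show ((α y).toNat : ℤ) = α y
    exact Int.toNat_of_nonneg hpos.le
  · show ((Module.length (X.presheaf.stalk y) ((∐ f).presheaf.stalk y)).toNat : ℤ) = _
    rw [length_stalk_sigma f y ∅ fun j hj => absurd (hS j hj hy ▸ j.1.2) hpos, Finset.sum_empty]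
    rfl
  · by_contra _
    exact hy (by by_contra h; exact (ne_of_gt hpos) (hα y h))
  · rfl

end Groth.Agent.Vol26
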