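import Groth.Agent.Lib.Vol26.Sigma
import Groth.Agent.Lib.AffHom12.Basic
import Groth.Agent.Lib.RefHull26.PowColim

/-! # Comparing coherent modules through their stalks at a generic point -/

set_option autoImplicit false
set_option linter.style.haveILetI false

universe u

open CategoryTheory CategoryTheory.Limits AlgebraicGeometry TopologicalSpace

set_option backward.isDefEq.respectTransparency false
set_option backward.isDefEq.respectTransparency.types false

noncomputable section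

namespace Groth.Agent.Vol26

open CurveCoh17 (stalkLin)
open scoped Classical

variable {X : Scheme.{u}}

theorem stalkLin_add_apply {M N : X.Modules} (f g : M ⟶ N) (x : X) (a : M.presheaf.stalk x) :
    stalkLin (f + g) x a = stalkLin f x a + stalkLin g x a := by
  show (M1.stalkAb x).map (f + g) a = _
  rw [Functor.map_add]
  rfl

theorem stalkLin_sub_apply {M N : X.Modules} (f g : M ⟶ N) (x : X) (a : M.presheaf.stalk x) :
    stalkLin (f - g) x a = stalkLin f x a - stalkLin g x a := by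
  show (M1.stalkAb x).map (f - g) a = _
  rw [Functor.map_sub]
  rfl

theorem mem_range_kernel_iff {M N : X.Modules} (φ : M ⟶ N) (x : X) (m : M.presheaf.stalk x) :
    m ∈ LinearMap.range (stalkLin (kernel.ι φ) x) ↔ stalkLin φ x m = 0 := by
  constructor
  · rintro ⟨a, rfl⟩
    rw [← InjMod.stalkLin_comp_apply, kernel.condition, InjMod.stalkLin_zero_apply]
  · intro hm
    have hT : (ShortComplex.mk (kernel.ι φ) φ (kernel.condition φ)).Exact :=
      ShortComplex.exact_of_f_is_kernel _ (kernelIsKernel φ)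
    exact (M1.exact_iff_stalk_eq_zero _).1 hT x m hm

theorem suppPt_biprod {ξ : X} {A B : X.Modules} (hA : SuppPt ξ A) (hB : SuppPt ξ B) : SuppPt ξ (A ⊞ B) := by
  intro y hy
  by_contra h
  haveI : Subsingleton (A.presheaf.stalk y) := not_nontrivial_iff_subsingleton.1 fun hn => h (hA y hn)
  haveI : Subsingleton (B.presheaf.stalk y) := not_nontrivial_iff_subsingleton.1 fun hn => h (hB y hn)
  refine not_subsingleton_iff_nontrivial.2 hy (subsingleton_of_forall_eq 0 fun a => ?_)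
  rw [← InjMod.stalkLin_id_apply (A ⊞ B) y a, ← biprod.total, stalkLin_add_apply, InjMod.stalkLin_comp_apply,
    InjMod.stalkLin_comp_apply, Subsingleton.elim (α := A.presheaf.stalk y) (stalkLin biprod.fst y a) 0,
    Subsingleton.elim (α := B.presheaf.stalk y) (stalkLin biprod.snd y a) 0, map_zero, map_zero, add_zero]

/-- A map of sections over an affine open gives a morphism into the sheaf extended from that open. -/
theorem exists_liftHom {U : X.Opens} (hU : IsAffineOpen U) {E E' : X.Modules} (hE : Coh.IsQCoh E)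
    (g : Γ(E, U.ι ''ᵁ ⊤) →ₗ[Γ(X, U.ι ''ᵁ ⊤)] Γ(E', U.ι ''ᵁ ⊤)) :
    ∃ Φ : E ⟶ (Scheme.Modules.pushforward U.ι).obj ((Scheme.Modules.restrictFunctor U.ι).obj E'),
      ∀ (ξ : X) (h : ξ ∈ U.ι ''ᵁ ⊤) (m : Γ(E, U.ι ''ᵁ ⊤)),
        stalkLin Φ ξ (E.presheaf.germ _ ξ h m) =
          stalkLin (RH26.unitU U E') ξ (E'.presheaf.germ _ ξ h (g m)) := by
  haveI : IsAffine (U : Scheme.{u}) := hU
  let l : Γ(E.restrict U.ι, ⊤) →+ Γ(E'.restrict U.ι, ⊤) :=
    AddMonoidHom.mk' (fun x => (E'.restrictAppIso U.ι ⊤).inv (g ((E.restrictAppIso U.ι ⊤).hom x)))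
      fun a b => by simp only [map_add]
  obtain ⟨ψ, hψ⟩ := AffHom12.exists_hom_top (G := E.restrict U.ι) (H := E'.restrict U.ι)
    (M1.isQCoh_restrict hE U.ι) l fun r a => by
      show g ((E.restrictAppIso U.ι ⊤).hom (r • a)) = (E'.restrictAppIso U.ι ⊤).hom (r • l a)
      rw [M1.restrict_ι_smul, M1.restrict_ι_smul, map_smul]
      rfl
  refine ⟨(Scheme.Modules.restrictAdjunction U.ι).unit.app E ≫ (Scheme.Modules.pushforward U.ι).map ψ,
    fun ξ h m => ?_⟩
  refine (M1.germ_naturality _ _ _ h m).trans (Eq.trans ?_ (M1.germ_naturality _ _ _ h (g m)).symm)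
  congr 1
  rw [RH26.unitU, M1.comp_app_apply]
  show ψ.app (U.ι ⁻¹ᵁ (U.ι ''ᵁ ⊤)) ((E.restrict U.ι).presheaf.map
      (homOfLE (le_top : U.ι ⁻¹ᵁ (U.ι ''ᵁ ⊤) ≤ ⊤)).op m) =
    (E'.restrict U.ι).presheaf.map (homOfLE (le_top : U.ι ⁻¹ᵁ (U.ι ''ᵁ ⊤) ≤ ⊤)).op (l m)
  rw [← hψ m]
  exact ConcreteCategory.congr_hom (ψ.mapPresheaf.naturality (homOfLE (le_top : U.ι ⁻¹ᵁ (U.ι ''ᵁ ⊤) ≤ ⊤)).op) m

variable [IsLocallyNoetherian X]

/-- The graph of a linear map of stalks at the generic point of the support. -/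
theorem exists_graph {ξ : X} {E E' : X.Modules} (hE : Coh.IsCoh E) (hE' : Coh.IsCoh E') (hs : SuppPt ξ E)
    (hs' : SuppPt ξ E') (θ : E.presheaf.stalk ξ →ₗ[X.presheaf.stalk ξ] E'.presheaf.stalk ξ) :
    ∃ (N : X.Modules) (i : N ⟶ E) (j : N ⟶ E'), Coh.IsCoh N ∧ SuppPt ξ N ∧ Function.Bijective (stalkLin i ξ) ∧
      ∀ a, stalkLin j ξ a = θ (stalkLin i ξ a) := by
  obtain ⟨U, hU, hξU, -⟩ := exists_isAffineOpen_mem_and_subset (U := (⊤ : X.Opens)) (x := ξ) trivial
  set W := U.ι ''ᵁ ⊤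
  have hξ : ξ ∈ W := by rw [show W = U from M1.image_ι_top U]; exact hξU
  have hW : IsAffineOpen W := (congrArg IsAffineOpen (M1.image_ι_top U)).mpr hU
  haveI := hE.1
  haveI := hE'.1
  letI := M1.stalkModule E hξ
  letI := M1.stalkModule E' hξ
  haveI := M1.isLocalizedModule_germ E' hW hξ
  haveI : Module.FinitePresentation Γ(X, W) Γ(E, W) :=
    M1.finitePresentation_sections (M1.isFP_of_isCoh hE) hW
  let θ' : E.presheaf.stalk ξ →ₗ[Γ(X, W)] E'.presheaf.stalk ξ :=
    { toFun := θ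
      map_add' := θ.map_add
      map_smul' := fun r a => θ.map_smul (X.presheaf.germ W ξ hξ r) a }
  obtain ⟨g, s, hg⟩ := Module.FinitePresentation.exists_lift_of_isLocalizedModule
    (hW.primeIdealOf ⟨ξ, hξ⟩).asIdeal.primeCompl (M1.germₗ E' hξ) (θ' ∘ₗ M1.germₗ E hξ)
  set c := X.presheaf.germ W ξ hξ s.1
  have hc : IsUnit c := (M1.isUnit_germ_iff hW hξ s.1).2 s.2
  have hg' : ∀ m, E'.presheaf.germ W ξ hξ (g m) = c • θ (E.presheaf.germ W ξ hξ m) := fun m =>
    LinearMap.congr_fun hg m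
  obtain ⟨Φ, hΦ⟩ := exists_liftHom hU hE.1 g
  obtain ⟨σ, hσ⟩ := exists_liftHom hU hE'.1 (s.1 • (LinearMap.id : Γ(E', W) →ₗ[Γ(X, W)] Γ(E', W)))
  set η := stalkLin (RH26.unitU U E') ξ
  have hη : Function.Bijective η := RH26.bijective_stalk_unit U hξU
  have ext_germ : ∀ {M P : X.Modules} [Coh.IsQCoh M] (f f' : M.presheaf.stalk ξ →ₗ[X.presheaf.stalk ξ]
      P.presheaf.stalk ξ), (∀ m, f (M.presheaf.germ W ξ hξ m) = f' (M.presheaf.germ W ξ hξ m)) → ∀ e, f e = f' e := by
    intro M P _ f f' h e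
    obtain ⟨r, m, hr, hm⟩ := M1.exists_germ_smul_eq M hW hξ e
    refine hr.smul_left_cancel.1 ?_
    rw [← map_smul, ← map_smul, hm, h]
  have eΦ : ∀ e, stalkLin Φ ξ e = η (c • θ e) :=
    ext_germ (stalkLin Φ ξ) (η.comp (c • θ)) fun m => by
      rw [hΦ ξ hξ m, hg']
      rfl
  have eσ : ∀ e, stalkLin σ ξ e = η (c • e) :=
    ext_germ (stalkLin σ ξ) (η.comp (c • LinearMap.id)) fun m => by
      rw [hσ ξ hξ m]
      show η (E'.presheaf.germ W ξ hξ (s.1 • m)) = _
      rw [M1.germ_smul]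
      rfl
  let D : E ⊞ E' ⟶ _ := biprod.fst ≫ Φ - biprod.snd ≫ σ
  have hP : Coh.IsQCoh ((Scheme.Modules.pushforward U.ι).obj ((Scheme.Modules.restrictFunctor U.ι).obj E')) :=
    M1.isQCoh_push U.ι (M1.isQCoh_restrict hE'.1 U.ι)
  refine ⟨kernel D, kernel.ι D ≫ biprod.fst, kernel.ι D ≫ biprod.snd, M1.isCoh_kernel (M1.isCoh_biprod hE hE') hP D,
    suppPt_of_mono (kernel.ι D) (suppPt_biprod hs hs'), ?_⟩
  set ι := stalkLin (kernel.ι D) ξ
  have hinj : Function.Injective ι := (M1.mono_iff_stalk _).1 inferInstance ξ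
  have hD : ∀ v, stalkLin D ξ v = η (c • θ (stalkLin biprod.fst ξ v) - c • stalkLin biprod.snd ξ v) := fun v => by
    rw [stalkLin_sub_apply, InjMod.stalkLin_comp_apply, InjMod.stalkLin_comp_apply, eΦ, eσ, map_sub]
  have hker : ∀ a, stalkLin biprod.snd ξ (ι a) = θ (stalkLin biprod.fst ξ (ι a)) := fun a => by
    have h0 := hD (ι a)
    rw [(mem_range_kernel_iff D ξ _).1 ⟨a, rfl⟩] at h0
    have h1 : c • θ (stalkLin biprod.fst ξ (ι a)) - c • stalkLin biprod.snd ξ (ι a) = 0 :=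
      hη.1 (h0.symm.trans (map_zero η).symm)
    exact (hc.smul_left_cancel.1 (sub_eq_zero.1 h1)).symm
  refine ⟨⟨fun a b h => hinj ?_, fun e => ?_⟩, fun a => by
    rw [InjMod.stalkLin_comp_apply, InjMod.stalkLin_comp_apply]; exact hker a⟩
  · rw [InjMod.stalkLin_comp_apply, InjMod.stalkLin_comp_apply] at h
    have h2 : stalkLin biprod.snd ξ (ι a) = stalkLin biprod.snd ξ (ι b) := by rw [hker, hker, h]
    rw [← InjMod.stalkLin_id_apply (E ⊞ E') ξ (ι a), ← InjMod.stalkLin_id_apply (E ⊞ E') ξ (ι b), ← biprod.total,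
      stalkLin_add_apply, stalkLin_add_apply]
    simp only [InjMod.stalkLin_comp_apply]
    rw [h, h2]
  · let v := stalkLin (biprod.inl : E ⟶ E ⊞ E') ξ e + stalkLin (biprod.inr : E' ⟶ E ⊞ E') ξ (θ e)
    have h1 : stalkLin biprod.fst ξ v = e := by
      rw [map_add, ← InjMod.stalkLin_comp_apply, ← InjMod.stalkLin_comp_apply, biprod.inl_fst, biprod.inr_fst,
        InjMod.stalkLin_id_apply, InjMod.stalkLin_zero_apply, add_zero]
    have h2 : stalkLin biprod.snd ξ v = θ e := by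
      rw [map_add, ← InjMod.stalkLin_comp_apply, ← InjMod.stalkLin_comp_apply, biprod.inl_snd, biprod.inr_snd,
        InjMod.stalkLin_id_apply, InjMod.stalkLin_zero_apply, zero_add]
    obtain ⟨a, ha⟩ := (mem_range_kernel_iff D ξ v).2 (by rw [hD, h1, h2, sub_self, map_zero])
    exact ⟨a, by rw [InjMod.stalkLin_comp_apply]; exact (congrArg _ ha).trans h1⟩

/-- The part of a coherent module supported in the closure of a maximal point of its support. -/
theorem exists_part {F : X.Modules} (hF : Coh.IsCoh F) {ξ : X}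
    (hmax : ∀ y : X, Nontrivial (F.presheaf.stalk y) → y ⤳ ξ → y = ξ) :
    ∃ (H : X.Modules) (i : H ⟶ F), Coh.IsCoh H ∧ SuppPt ξ H ∧ Function.Bijective (stalkLin i ξ) := by
  let V : X.Opens := ⟨(closure {ξ})ᶜ, isClosed_closure.isOpen_compl⟩
  have hP : Coh.IsQCoh ((Scheme.Modules.pushforward V.ι).obj ((Scheme.Modules.restrictFunctor V.ι).obj F)) :=
    M1.isQCoh_push V.ι (M1.isQCoh_restrict hF.1 V.ι)
  refine ⟨kernel (RH26.unitU V F), kernel.ι _, M1.isCoh_kernel hF hP _, fun y hy => ?_, ?_, fun e => ?_⟩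
  · by_contra h
    have hyV : y ∈ V := fun hc => h (specializes_iff_mem_closure.2 hc)
    exact not_subsingleton_iff_nontrivial.2 hy (subsingleton_of_forall_eq 0 fun a =>
      CurveCoh17.eq_zero_stalk_kernel _ y (RH26.bijective_stalk_unit V hyV).1 a)
  · exact (M1.mono_iff_stalk _).1 inferInstance ξ
  rw [← LinearMap.mem_range]
  refine (mem_range_kernel_iff _ ξ e).2 ?_
  -- a neighbourhood in which the support is the closure of `ξ`
  obtain ⟨U, hU, hξU, -⟩ := exists_isAffineOpen_mem_and_subset (U := (⊤ : X.Opens)) (x := ξ) trivial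
  let Sp : Set X := {y | Nontrivial (F.presheaf.stalk y)}
  have hSp : IsClosed Sp := by
    convert M1.isClosed_support (M := F) hF.2 using 1
    ext y
    exact not_subsingleton_iff_nontrivial.symm
  let M : Set X := {η | η ∈ Sp ∧ (∀ y ∈ Sp, y ⤳ η → y = η) ∧ η ∈ U} \ {ξ}
  have hM : M.Finite := (Cyc26.finite_maximal_points hSp hU).subset Set.sdiff_subset
  have hclosed : IsClosed (⋃ η ∈ M, closure ({η} : Set X)) := hM.isClosed_biUnion fun _ _ => isClosed_closure
  let W : X.Opens := ⟨(U : Set X) ∩ (⋃ η ∈ M, closure ({η} : Set X))ᶜ, U.isOpen.inter hclosed.isOpen_compl⟩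
  have hξW : ξ ∈ W := by
    refine ⟨hξU, fun h => ?_⟩
    obtain ⟨η, hη, hc⟩ := Set.mem_iUnion₂.1 h
    exact hη.2 (hmax η hη.1.1 (specializes_iff_mem_closure.2 hc))
  have hzero : ∀ y ∈ W, y ∈ V → Subsingleton (F.presheaf.stalk y) := fun y hy hyV =>
    not_nontrivial_iff_subsingleton.1 fun hn => by
      haveI : QuasiSober Sp := hSp.isClosedEmbedding_subtypeVal.quasiSober
      obtain ⟨η, hη⟩ := QuasiSober.sober (irreducibleComponent_mem_irreducibleComponents (⟨y, hn⟩ : Sp)).1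
        isClosed_irreducibleComponent
      have hηy : (η : X) ⤳ y := (subtype_specializes_iff η ⟨y, hn⟩).1
        (specializes_iff_mem_closure.2 ((hη : closure {η} = _).symm ▸ mem_irreducibleComponent))
      have hmax' : ∀ z ∈ Sp, z ⤳ (η : X) → z = η := fun z hz hzη => by
        have h' : (⟨z, hz⟩ : Sp) ⤳ η := (subtype_specializes_iff _ _).2 hzη
        have hle : irreducibleComponent (⟨y, hn⟩ : Sp) ≤ closure {(⟨z, hz⟩ : Sp)} :=
          (hη : closure {η} = _) ▸ specializes_iff_closure_subset.1 h'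
        have heq := (irreducibleComponent_mem_irreducibleComponents (⟨y, hn⟩ : Sp)).2
          isIrreducible_singleton.closure hle
        exact congrArg Subtype.val (Specializes.antisymm h'
          (specializes_iff_closure_subset.2 ((hη : closure {η} = _).symm ▸ heq))).eq
      rcases eq_or_ne (η : X) ξ with he | he
      · exact hyV (specializes_iff_mem_closure.1 (he ▸ hηy))
      · exact hy.2 (Set.mem_iUnion₂.2 ⟨η, ⟨⟨η.2, hmax', hηy.mem_open U.isOpen hy.1⟩, he⟩,
          specializes_iff_mem_closure.1 hηy⟩)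
  obtain ⟨A, hA, s, rfl⟩ := F.presheaf.exists_germ_eq e
  have hAW : ξ ∈ A ⊓ W := ⟨hA, hξW⟩
  rw [← M1.germ_mres F (inf_le_left : A ⊓ W ≤ A) hAW s]
  refine (M1.germ_naturality _ _ _ hAW _).trans ?_
  have h0 : (RH26.unitU V F).app (A ⊓ W) (M1.mres F inf_le_left s) = 0 := by
    rw [RH26.unitU, Scheme.Modules.restrictAdjunction_unit_app_app]
    refine M1.section_ext (M := F) (U := V.ι ''ᵁ V.ι ⁻¹ᵁ (A ⊓ W)) _ _ fun y hy => ?_
    haveI := hzero y ((V.ι.image_preimage_le (A ⊓ W)) hy).2 ((RH26.mem_image_preimage V (A ⊓ W)).1 hy).2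
    exact Subsingleton.elim _ _
  rw [h0, map_zero]

end Groth.Agent.Vol26
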