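import Groth.Agent.Lib.Vol26.Zigzag
import Groth.Agent.Lib.Snapper.Twist
import Groth.Prelude.Def_C1

/-! # Twisting by an invertible module in `K₀` modulo smaller dimension -/

set_option autoImplicit false
set_option linter.style.haveILetI false

universe u

open CategoryTheory CategoryTheory.Limits AlgebraicGeometry TopologicalSpace

set_option backward.isDefEq.respectTransparency false
set_option backward.isDefEq.respectTransparency.types false

noncomputable section

namespace Groth.Agent.Vol26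

open CurveCoh17 (stalkLin)
open Cyc26 (tstalk)
open scoped Classical

variable {X : Scheme.{u}}

theorem stalkLin_tensorR_tstalk {M M' : X.Modules} (f : M ⟶ M') (L : X.Modules) (y : X) (m : M.presheaf.stalk y)
    (a : L.presheaf.stalk y) :
    stalkLin ((M2.tensorR L).map f) y (tstalk M L y m a) = tstalk M' L y (stalkLin f y m) a := by
  apply (M2.stalkEquiv M' L y).injective
  refine (CurveCoh17.stalkEquiv_natural f L y _).trans ?_
  simp only [tstalk, LinearEquiv.apply_symm_apply, LinearMap.rTensor_tmul]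

theorem nontrivial_of_tensor {M L : X.Modules} (hL : PicF.IsInvertible L) {y : X}
    (h : Nontrivial ((CohB1.tensorMod M L).presheaf.stalk y)) : Nontrivial (M.presheaf.stalk y) := by
  obtain ⟨a, ha⟩ := Cyc26.exists_gen hL y
  exact (Cyc26.bijective_tstalk_gen (G := M) ha).2.nontrivial

theorem suppPt_tensor {M L : X.Modules} (hL : PicF.IsInvertible L) {ξ : X} (h : SuppPt ξ M) :
    SuppPt ξ (CohB1.tensorMod M L) := fun y hy => h y (nontrivial_of_tensor hL hy)

theorem length_tensor {M L : X.Modules} (hL : PicF.IsInvertible L) (y : X) :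
    Module.length (X.presheaf.stalk y) ((CohB1.tensorMod M L).presheaf.stalk y) =
      Module.length (X.presheaf.stalk y) (M.presheaf.stalk y) := by
  obtain ⟨a, ha⟩ := Cyc26.exists_gen hL y
  let l : M.presheaf.stalk y →ₗ[X.presheaf.stalk y] (CohB1.tensorMod M L).presheaf.stalk y :=
    { toFun := fun m => tstalk M L y m a
      map_add' := fun m m' => by simp only [tstalk, TensorProduct.add_tmul, map_add]
      map_smul' := fun r m => Cyc26.tstalk_smul_left y r m a }
  exact ((LinearEquiv.ofBijective l (Cyc26.bijective_tstalk_gen ha)).length_eq).symm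

variable [IsLocallyNoetherian X] {δ : X → ℤ}

theorem cohLe_tensor {k : ℤ} {M L : X.Modules} (hL : PicF.IsInvertible L) (hM : Cyc.CohLe δ k M) :
    Cyc.CohLe δ k (CohB1.tensorMod M L) :=
  ⟨CurveCoh17.isCoh_tensor hM.1 (Snapper.isCoh_of_isInvertible hL), fun y hy => hM.2 y (nontrivial_of_tensor hL hy)⟩

theorem toK0_iso {a b : ℤ} {M N : X.Modules} (φ : M ⟶ N) [IsIso φ] (hM : Cyc.CohLe δ a M)
    (hN : Cyc.CohLe δ a N) : Cyc.toK0CohQuot δ a b M = Cyc.toK0CohQuot δ a b N := by
  have hz : ∀ y, Subsingleton ((cokernel φ).presheaf.stalk y) := fun y =>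
    subsingleton_of_forall_eq 0 fun c => CurveCoh17.eq_zero_stalk_cokernel φ y
      ((M1.isIso_iff_stalk φ).1 inferInstance y).2 c
  have hC : ∀ m : ℤ, Cyc.CohLe δ m (cokernel φ) := fun m =>
    ⟨M1.isCoh_cokernel hM.1.1 hN.1 φ, fun y hy => absurd (hz y) (not_subsingleton_iff_nontrivial.2 hy)⟩
  have e := toK0_add (δ := δ) a b (S := ShortComplex.mk φ (cokernel.π φ) (cokernel.condition φ))
    { exact := ShortComplex.exact_cokernel φ } hM hN (hC a)
  dsimp only at e
  rw [e, show Cyc.toK0CohQuot δ a b (cokernel φ) = 0 from (QuotientAddGroup.eq_zero_iff _).2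
    (AddSubgroup.subset_closure ⟨_, hC b, rfl⟩), add_zero]

/-- The difference with the twist is additive and vanishes in dimension `k`. -/
theorem isChar_twist (hd : Cyc.IsDimFun X δ) {k : ℤ} {L : X.Modules} (hL : PicF.IsInvertible L) :
    IsChar δ (k + 1) (fun F => Cyc.toK0CohQuot δ (k + 1) (k - 1) (CohB1.tensorMod F L) -
      Cyc.toK0CohQuot δ (k + 1) (k - 1) F) where
  add S hS h1 h2 h3 := by
    have e1 := toK0_add (δ := δ) (k + 1) (k - 1) (S := S.map (M2.tensorR L))
      (CurveCoh17.shortExact_tensorR hS L (Snapper.flat_stalk hL)) (cohLe_tensor hL h1) (cohLe_tensor hL h2)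
      (cohLe_tensor hL h3)
    have e2 := toK0_add (δ := δ) (k + 1) (k - 1) hS h1 h2 h3
    have e1' : Cyc.toK0CohQuot δ (k + 1) (k - 1) (CohB1.tensorMod S.X₂ L) =
        Cyc.toK0CohQuot δ (k + 1) (k - 1) (CohB1.tensorMod S.X₁ L) +
          Cyc.toK0CohQuot δ (k + 1) (k - 1) (CohB1.tensorMod S.X₃ L) := e1
    rw [e1', e2]
    abel
  zero F hF := by
    have hF' : Cyc.CohLe δ k F := cohLe_mono (by omega) hF
    show _ - _ = (0 : Cyc.K0CohQuot δ (k + 1) (k - 1))
    rw [(isChar_toK0 (δ := δ) (a := k + 1) (b := k - 1) (by omega) le_rfl).congr hd (cohLe_tensor hL hF') hF'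
      (funext fun y => by simp only [Cyc.sheafFun, length_tensor hL]), sub_self]

/-- Tensoring commutes with sums, on stalks. -/
theorem bijective_stalk_sigma_tensor {J : Type u} (G : J → X.Modules) {L : X.Modules} (hL : PicF.IsInvertible L)
    (y : X) : Function.Bijective (stalkLin
      (Sigma.desc fun j => (M2.tensorR L).map (Sigma.ι G j) :
        ∐ (fun j => CohB1.tensorMod (G j) L) ⟶ CohB1.tensorMod (∐ G) L) y) := by
  set G' : J → X.Modules := fun j => CohB1.tensorMod (G j) L
  set τ : ∐ G' ⟶ CohB1.tensorMod (∐ G) L := Sigma.desc fun j => (M2.tensorR L).map (Sigma.ι G j)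
  obtain ⟨a, ha⟩ := Cyc26.exists_gen hL y
  have hd : ∀ j (b : (G' j).presheaf.stalk y), stalkLin τ y (stalkLin (Sigma.ι G' j) y b) =
      stalkLin ((M2.tensorR L).map (Sigma.ι G j)) y b := fun j b => by
    rw [← InjMod.stalkLin_comp_apply, Sigma.ι_desc]
    rfl
  have hback : ∀ j, τ ≫ (M2.tensorR L).map (sigProj G j) = sigProj G' j := fun j => Sigma.hom_ext _ _ fun i => by
    rw [Sigma.ι_desc_assoc, ← Functor.map_comp]
    simp only [sigProj, Sigma.ι_desc]
    split_ifs with h
    · subst h
      simp only [eqToHom_refl, CategoryTheory.Functor.map_id]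
      rfl
    · exact Functor.map_zero _ _ _
  refine ⟨fun p q h => sigma_stalk_ext G' y fun j => ?_, fun c => ?_⟩
  · rw [← hback, InjMod.stalkLin_comp_apply, InjMod.stalkLin_comp_apply, h]
  · obtain ⟨m, rfl⟩ := (Cyc26.bijective_tstalk_gen (G := ∐ G) ha).2 c
    obtain ⟨T, -, hm⟩ := sigma_stalk_eq G y m
    refine ⟨∑ j ∈ T, stalkLin (Sigma.ι G' j) y (tstalk (G j) L y (stalkLin (sigProj G j) y m) a), ?_⟩
    rw [map_sum]
    conv_rhs => rw [hm]
    simp only [tstalk, TensorProduct.sum_tmul, map_sum]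
    refine Finset.sum_congr rfl fun j _ => ?_
    exact (hd j _).trans (stalkLin_tensorR_tstalk (Sigma.ι G j) L y _ a)

end Groth.Agent.Vol26
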