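import Groth.Agent.Lib.Vol26.Graph

/-! # Additive functions of coherent modules modulo smaller dimension only depend on the cycle -/

set_option autoImplicit false
set_option linter.style.haveILetI false

universe u v

open CategoryTheory CategoryTheory.Limits AlgebraicGeometry TopologicalSpace

set_option backward.isDefEq.respectTransparency false
set_option backward.isDefEq.respectTransparency.types false

noncomputable section

namespace Groth.Agent.Vol26

open CurveCoh17 (stalkLin)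
open scoped Classical

variable {X : Scheme.{u}}

/-- Additive on coherent modules of dimension at most `k` and zero in smaller dimension. -/
structure IsChar (δ : X → ℤ) (k : ℤ) {A : Type v} [AddCommGroup A] (Λ : X.Modules → A) : Prop where
  add : ∀ S : ShortComplex X.Modules, S.ShortExact → Cyc.CohLe δ k S.X₁ → Cyc.CohLe δ k S.X₂ →
    Cyc.CohLe δ k S.X₃ → Λ S.X₂ = Λ S.X₁ + Λ S.X₃
  zero : ∀ F : X.Modules, Cyc.CohLe δ (k - 1) F → Λ F = 0

/-- The length of a stalk. -/
def lenAt (F : X.Modules) (ξ : X) : ℕ := (Module.length (X.presheaf.stalk ξ) (F.presheaf.stalk ξ)).toNat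

theorem sheafFun_eq_lenAt {δ : X → ℤ} {k : ℤ} {ξ : X} (h : δ ξ = k) (F : X.Modules) :
    Cyc.sheafFun δ k F ξ = (lenAt F ξ : ℤ) := by
  simp only [Cyc.sheafFun, if_pos h, lenAt]

theorem isSimpleModule_equiv {R M M' : Type*} [CommRing R] [IsLocalRing R] [AddCommGroup M] [AddCommGroup M']
    [Module R M] [Module R M'] (h : IsSimpleModule R M) (h' : IsSimpleModule R M') : Nonempty (M ≃ₗ[R] M') := by
  obtain ⟨m, hm, ⟨e⟩⟩ := isSimpleModule_iff_quot_maximal.mp h
  obtain ⟨m', hm', ⟨e'⟩⟩ := isSimpleModule_iff_quot_maximal.mp h'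
  exact ⟨e.trans ((Submodule.quotEquivOfEq _ _
    ((IsLocalRing.eq_maximalIdeal hm).trans (IsLocalRing.eq_maximalIdeal hm').symm)).trans e'.symm)⟩

theorem bijective_stalk_map {J : Type u} (f g : J → X.Modules) (y : X) (φ : ∀ j, f j ⟶ g j)
    (hφ : ∀ j, Function.Bijective (stalkLin (φ j) y)) :
    Function.Bijective (stalkLin (Sigma.desc fun j => φ j ≫ Sigma.ι g j) y) :=
  bijective_stalk_reindex f g y id Function.injective_id (fun q hq => absurd ⟨q, rfl⟩ hq) φ hφ

variable [IsLocallyNoetherian X] {δ : X → ℤ} (hd : Cyc.IsDimFun X δ) {k : ℤ}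

theorem length_ne_top_of_suppPt {ξ : X} {G : X.Modules} (hG : Coh.IsCoh G) (hs : SuppPt ξ G) :
    Module.length (X.presheaf.stalk ξ) (G.presheaf.stalk ξ) ≠ ⊤ :=
  Cyc26.length_stalk_ne_top hG fun y hy h => (Specializes.antisymm h (hs y hy)).eq

include hd in
theorem length_ne_top_of_cohLe {ξ : X} (hξ : δ ξ = k) {G : X.Modules} (hG : Cyc.CohLe δ k G) :
    Module.length (X.presheaf.stalk ξ) (G.presheaf.stalk ξ) ≠ ⊤ :=
  Cyc26.length_stalk_ne_top hG.1 fun y hy h => by
    by_contra hne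
    have := (hd y ξ h hne).1
    have := hG.2 y hy
    omega

theorem subsingleton_of_lenAt_eq_zero {ξ : X} {G : X.Modules}
    (hfin : Module.length (X.presheaf.stalk ξ) (G.presheaf.stalk ξ) ≠ ⊤) (h : lenAt G ξ = 0) :
    Subsingleton (G.presheaf.stalk ξ) := by
  rw [← Module.length_eq_zero_iff (R := X.presheaf.stalk ξ)]
  exact (ENat.toNat_eq_zero.1 h).resolve_right hfin

theorem lenAt_eq_of_bijective {M N : X.Modules} (φ : M ⟶ N) {ξ : X} (h : Function.Bijective (stalkLin φ ξ)) :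
    lenAt M ξ = lenAt N ξ := by
  rw [lenAt, lenAt, (LinearEquiv.ofBijective _ h).length_eq]

section
variable {A : Type v} [AddCommGroup A] {Λ : X.Modules → A}

theorem IsChar.of_isZero (hΛ : IsChar δ k Λ) {F : X.Modules} (hc : Coh.IsCoh F)
    (h : ∀ y : X, Subsingleton (F.presheaf.stalk y)) : Λ F = 0 :=
  hΛ.zero F ⟨hc, fun y hy => absurd (h y) (not_subsingleton_iff_nontrivial.2 hy)⟩

/-- Modules isomorphic in dimension `k` have the same value. -/
theorem IsChar.of_bijective (hΛ : IsChar δ k Λ) {F F' : X.Modules} (hF : Cyc.CohLe δ k F) (hF' : Cyc.CohLe δ k F')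
    (φ : F ⟶ F') (hφ : ∀ y, δ y = k → Function.Bijective (stalkLin φ y)) : Λ F = Λ F' := by
  have cK : Coh.IsCoh (kernel φ) := M1.isCoh_kernel hF.1 hF'.1.1 φ
  have cC : Coh.IsCoh (cokernel φ) := M1.isCoh_cokernel hF.1.1 hF'.1 φ
  have cI : Coh.IsCoh (Abelian.image φ) := M1.isCoh_kernel hF'.1 cC.1 (cokernel.π φ)
  have nK : ∀ y, Nontrivial ((kernel φ).presheaf.stalk y) → δ y ≤ k - 1 := fun y hy => by
    have hinj : Function.Injective (stalkLin (kernel.ι φ) y) := (M1.mono_iff_stalk _).1 inferInstance y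
    have h1 := hF.2 y hinj.nontrivial
    by_contra h
    exact not_subsingleton_iff_nontrivial.2 hy (subsingleton_of_forall_eq 0
      fun a => CurveCoh17.eq_zero_stalk_kernel φ y (hφ y (by omega)).1 a)
  have nC : ∀ y, Nontrivial ((cokernel φ).presheaf.stalk y) → δ y ≤ k - 1 := fun y hy => by
    have hsurj : Function.Surjective (stalkLin (cokernel.π φ) y) := (M1.epi_iff_stalk _).1 inferInstance y
    have h1 := hF'.2 y hsurj.nontrivial
    by_contra h
    exact not_subsingleton_iff_nontrivial.2 hy (subsingleton_of_forall_eq 0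
      fun a => CurveCoh17.eq_zero_stalk_cokernel φ y (hφ y (by omega)).2 a)
  have nI : Cyc.CohLe δ k (Abelian.image φ) := ⟨cI, fun y hy => by
    have hinj : Function.Injective (stalkLin (Abelian.image.ι φ) y) := (M1.mono_iff_stalk _).1 inferInstance y
    exact hF'.2 y hinj.nontrivial⟩
  have e1 : Λ F = Λ (kernel φ) + Λ (Abelian.image φ) :=
    hΛ.add _ (K0Cat.shortExact_kernel_image φ) (cohLe_mono (by omega) ⟨cK, nK⟩) hF nI
  let S : ShortComplex X.Modules := ShortComplex.mk (Abelian.image.ι φ) (cokernel.π φ) (kernel.condition _)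
  have hS : S.ShortExact := ShortComplex.ShortExact.mk' (ShortComplex.exact_of_f_is_kernel _ (kernelIsKernel _))
    inferInstance inferInstance
  have e2 : Λ F' = Λ (Abelian.image φ) + Λ (cokernel φ) :=
    hΛ.add S hS nI hF' (cohLe_mono (by omega) ⟨cC, nC⟩)
  rw [hΛ.zero _ ⟨cK, nK⟩, zero_add] at e1
  rw [hΛ.zero _ ⟨cC, nC⟩, add_zero] at e2
  rw [e1, e2]

end

include hd in
/-- Removing one simple quotient at the generic point. -/
theorem exists_step {ξ : X} (hξ : δ ξ = k) {G : X.Modules} (hG : Coh.IsCoh G) (hs : SuppPt ξ G) :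
    ∃ (G' Q : X.Modules) (f : G' ⟶ G) (p : G ⟶ Q) (w : f ≫ p = 0), (ShortComplex.mk f p w).ShortExact ∧
      Coh.IsCoh G' ∧ SuppPt ξ G' ∧ Coh.IsCoh Q ∧ SuppPt ξ Q ∧ lenAt G' ξ = lenAt G ξ - 1 ∧
      lenAt Q ξ = min (lenAt G ξ) 1 ∧ (lenAt G ξ = 0 → ∀ y, Subsingleton (G'.presheaf.stalk y)) := by
  have hfin := length_ne_top_of_suppPt hG hs
  rcases Nat.eq_zero_or_pos (lenAt G ξ) with h0 | hpos
  · have hsub : ∀ y, Subsingleton ((kernel (𝟙 G)).presheaf.stalk y) := fun y =>
      subsingleton_of_forall_eq 0 fun a => CurveCoh17.eq_zero_stalk_kernel (𝟙 G) y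
        (fun a b h => by rwa [InjMod.stalkLin_id_apply, InjMod.stalkLin_id_apply] at h) a
    refine ⟨kernel (𝟙 G), G, kernel.ι _, 𝟙 G, kernel.condition _,
      ShortComplex.ShortExact.mk' (ShortComplex.exact_of_f_is_kernel _ (kernelIsKernel _)) inferInstance inferInstance,
      M1.isCoh_kernel hG hG.1 _, suppPt_of_mono (kernel.ι _) hs, hG, hs, ?_, by rw [h0, Nat.zero_min], fun _ => hsub⟩
    haveI := hsub ξ
    rw [h0, lenAt, Module.length_eq_zero_iff.2 (hsub ξ)]
    rfl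
  haveI : Nontrivial (G.presheaf.stalk ξ) := not_subsingleton_iff_nontrivial.1 fun hsub => by
    rw [lenAt, Module.length_eq_zero_iff.2 hsub] at hpos
    exact lt_irrefl 0 hpos
  haveI := hG.1
  haveI := M1.finite_stalk hG.1 (M1.isFP_isFT (M1.isFP_of_isCoh hG)) ξ
  obtain ⟨W, hW, -⟩ := (eq_top_or_exists_le_coatom (⊥ : Submodule (X.presheaf.stalk ξ) (G.presheaf.stalk ξ))).resolve_left
    bot_ne_top
  have hE : Coh.IsCoh (Cyc.closureStructureSheaf ξ) := isCoh_closureStructureSheaf ξ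
  have hEsimple : IsSimpleModule (X.presheaf.stalk ξ) ((Cyc.closureStructureSheaf ξ).presheaf.stalk ξ) :=
    Module.length_eq_one_iff.1 (length_closureStructureSheaf_self ξ)
  obtain ⟨e⟩ := isSimpleModule_equiv (isSimpleModule_iff_isCoatom.2 hW) hEsimple
  let θ := e.toLinearMap ∘ₗ W.mkQ
  have hθ : Function.Surjective θ := e.surjective.comp W.mkQ_surjective
  obtain ⟨N, i, j, hN, hNs, hib, hij⟩ := exists_graph hG hE hs (suppPt_closureStructureSheaf ξ) θ
  let f₀ := kernel.ι j ≫ i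
  have cQ : Coh.IsCoh (cokernel f₀) := M1.isCoh_cokernel (M1.isCoh_kernel hN hE.1 j).1 hG f₀
  have cG' : Coh.IsCoh (Abelian.image f₀) := M1.isCoh_kernel hG cQ.1 (cokernel.π f₀)
  have hS : (ShortComplex.mk (Abelian.image.ι f₀) (cokernel.π f₀) (kernel.condition _)).ShortExact :=
    ShortComplex.ShortExact.mk' (ShortComplex.exact_of_f_is_kernel _ (kernelIsKernel _)) inferInstance inferInstance
  refine ⟨Abelian.image f₀, cokernel f₀, Abelian.image.ι f₀, cokernel.π f₀, kernel.condition _, hS, cG',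
    suppPt_of_mono (Abelian.image.ι f₀) hs, cQ, suppPt_of_epi (cokernel.π f₀) hs, ?_⟩
  have hrange : LinearMap.range (stalkLin f₀ ξ) = LinearMap.ker θ := by
    ext m
    rw [LinearMap.mem_ker]
    constructor
    · rintro ⟨a, rfl⟩
      rw [InjMod.stalkLin_comp_apply, ← hij, (mem_range_kernel_iff j ξ _).1 ⟨a, rfl⟩]
    · intro hm
      obtain ⟨b, rfl⟩ := hib.2 m
      obtain ⟨a, ha⟩ := (mem_range_kernel_iff j ξ b).2 ((hij b).trans hm)
      exact ⟨a, by rw [InjMod.stalkLin_comp_apply]; exact congrArg _ ha⟩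
  have hQ : Module.length (X.presheaf.stalk ξ) ((cokernel f₀).presheaf.stalk ξ) = 1 := by
    rw [Cyc26.length_stalk_cokernel, hrange, (θ.quotKerEquivOfSurjective hθ).length_eq,
      length_closureStructureSheaf_self]
  obtain ⟨hi, he, hsur⟩ := Cyc26.stalkLin_exact hS ξ
  have hadd := Module.length_eq_add_of_exact _ _ hi hsur he
  have hG' := length_ne_top_of_suppPt cG' (suppPt_of_mono (Abelian.image.ι f₀) hs)
  have h1 : lenAt (cokernel f₀) ξ = 1 := by rw [lenAt, hQ]; rfl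
  have h2 : lenAt G ξ = lenAt (Abelian.image f₀) ξ + 1 := by
    rw [← h1]
    show (Module.length _ _).toNat = _
    rw [show Module.length (X.presheaf.stalk ξ) (G.presheaf.stalk ξ) = _ from hadd,
      ENat.toNat_add hG' (by rw [hQ]; exact ENat.one_ne_top)]
    rfl
  exact ⟨by omega, by omega, fun h => by omega⟩

variable {A : Type v} [AddCommGroup A] {Λ : X.Modules → A}

set_option maxHeartbeats 1000000 in
include hd in
/-- An additive function zero in smaller dimension only depends on the cycle. -/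
theorem IsChar.eq_cycleSheaf (hΛ : IsChar δ k Λ) {F : X.Modules} (hF : Cyc.CohLe δ k F) :
    Λ F = Λ (Cyc.cycleSheafPos (Cyc.sheafFun δ k F)) := by
  set a := Cyc.sheafFun δ k F
  let S : Type u := {ξ : X // δ ξ = k ∧ Nontrivial (F.presheaf.stalk ξ)}
  have hmax : ∀ s : S, ∀ y : X, Nontrivial (F.presheaf.stalk y) → y ⤳ s.1 → y = s.1 := fun s y hy h => by
    by_contra hne
    have := (hd y s.1 h hne).1
    have := hF.2 y hy
    have := s.2.1
    omega
  choose H iH hH hHs hHb using fun s : S => exists_part hF.1 (hmax s)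
  let GG : S → Type (u + 1) := fun s => {G : X.Modules // Coh.IsCoh G ∧ SuppPt s.1 G}
  choose G' Q f p w hS cG' sG' cQ sQ lG' lQ zG' using fun (s : S) (G : GG s) => exists_step hd s.2.1 G.2.1 G.2.2
  let G : (s : S) → ℕ → GG s := fun s m =>
    Nat.rec ⟨H s, hH s, hHs s⟩ (fun _ prev => ⟨G' s prev, cG' s prev, sG' s prev⟩) m
  let n : S → ℕ := fun s => lenAt F s.1
  have hlen : ∀ s m, lenAt (G s m).1 s.1 = n s - m := by
    intro s m
    induction m with
    | zero => rw [Nat.sub_zero]; exact lenAt_eq_of_bijective (iH s) (hHb s)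
    | succ m ih =>
      show lenAt (G' s (G s m)) s.1 = _
      rw [lG', ih]
      omega
  have hz : ∀ s m, n s < m → ∀ y, Subsingleton ((G s m).1.presheaf.stalk y) := by
    intro s m hm
    obtain ⟨m, rfl⟩ : ∃ m', m = m' + 1 := ⟨m - 1, by omega⟩
    exact zG' s (G s m) (by rw [hlen]; omega)
  let P : Type u := S × ULift.{u} ℕ
  have hfib : ∀ x : X, ∃ W : Set X, IsOpen W ∧ x ∈ W ∧ {s : S | s.1 ∈ W}.Finite := fun x => by
    obtain ⟨W, hW, hx, hfin⟩ := exists_nhd_finite hd hF x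
    exact ⟨W, hW, hx, (hfin.preimage Subtype.val_injective.injOn).subset fun s hs => ⟨s.2.1, s.2.2, hs⟩⟩
  have lfP : ∀ g : P → X.Modules, (∀ q, SuppPt q.1.1 (g q)) →
      (∀ q : P, n q.1 < q.2.down → ∀ y, Subsingleton ((g q).presheaf.stalk y)) → KSwindle.LocFin g := by
    intro g hg hgz
    refine locFin_of (fun q => q.1.1) hg fun x => ?_
    obtain ⟨W, hW, hx, hfin⟩ := hfib x
    refine ⟨W, hW, hx, (hfin.biUnion fun s _ => (Set.finite_le_nat (n s)).image fun m => ((s, ⟨m⟩) : P)).subset ?_⟩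
    rintro ⟨s, ⟨m⟩⟩ ⟨hs, y, hy⟩
    exact Set.mem_biUnion (x := s) hs ⟨m, not_lt.1 fun h => not_subsingleton_iff_nontrivial.2 hy (hgz (s, ⟨m⟩) h y),
      rfl⟩
  let g0 : P → X.Modules := fun q => (G q.1 q.2.down).1
  let g1 : P → X.Modules := fun q => (G q.1 (q.2.down + 1)).1
  let eQ : P → X.Modules := fun q => Q q.1 (G q.1 q.2.down)
  have dimS : ∀ s : S, δ s.1 ≤ k := fun s => le_of_eq s.2.1
  have c0 : Cyc.CohLe δ k (∐ g0) := cohLe_sigma (lfP g0 (fun q => (G q.1 q.2.down).2.2) fun q h => hz _ _ h)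
    fun q => cohLe_of_suppPt hd (G _ _).2.1 (G _ _).2.2 (dimS q.1)
  have c1 : Cyc.CohLe δ k (∐ g1) := cohLe_sigma (lfP g1 (fun q => (G q.1 (q.2.down + 1)).2.2) fun q h => hz q.1 (q.2.down + 1) (by omega))
    fun q => cohLe_of_suppPt hd (G q.1 (q.2.down + 1)).2.1 (G q.1 (q.2.down + 1)).2.2 (dimS q.1)
  have hQz : ∀ q : P, n q.1 < q.2.down → ∀ y, Subsingleton ((eQ q).presheaf.stalk y) := fun q h y => by
    haveI := hz _ _ h y
    have hsurj : Function.Surjective (stalkLin (p q.1 (G q.1 q.2.down)) y) :=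
      (Cyc26.stalkLin_exact (hS q.1 (G q.1 q.2.down)) y).2.2
    exact hsurj.subsingleton
  have cE : Cyc.CohLe δ k (∐ eQ) := cohLe_sigma (lfP eQ (fun q => sQ _ _) hQz)
    fun q => cohLe_of_suppPt hd (cQ _ _) (sQ _ _) (dimS q.1)
  have cH : Cyc.CohLe δ k (∐ H) := cohLe_sigma (locFin_of (fun s => s.1) hHs fun x => by
      obtain ⟨W, hW, hx, hfin⟩ := hfib x
      exact ⟨W, hW, hx, hfin.subset fun s hs => hs.1⟩)
    fun s => cohLe_of_suppPt hd (hH s) (hHs s) (dimS s)
  -- the parts sum to the module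
  have hFH : Λ (∐ H) = Λ F := by
    refine hΛ.of_bijective cH hF (Sigma.desc iH) fun y hy => ?_
    by_cases hn : Nontrivial (F.presheaf.stalk y)
    · exact bijective_stalk_desc_single H y ⟨y, hy, hn⟩ (fun s hs => (hHs s).subsingleton hd
        (fun h => hs (Subtype.ext h.symm)) (by rw [s.2.1, hy])) iH (hHb _)
    · haveI : Subsingleton (F.presheaf.stalk y) := not_nontrivial_iff_subsingleton.1 hn
      haveI : Subsingleton ((∐ H).presheaf.stalk y) := not_nontrivial_iff_subsingleton.1 fun h => by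
        obtain ⟨s, hs⟩ := exists_nontrivial_of_sigma H y h
        refine not_subsingleton_iff_nontrivial.2 hs ((hHs s).subsingleton hd (fun h => ?_) (by rw [s.2.1, hy]))
        exact hn (h ▸ s.2.2)
      exact ⟨fun a b _ => Subsingleton.elim a b, fun b => ⟨0, Subsingleton.elim _ _⟩⟩
  -- the swindle
  have e1 : Λ (∐ g0) = Λ (∐ g1) + Λ (∐ eQ) := hΛ.add _
    (KSwindle.shortExact_sigma.{u} (fun q : P => ShortComplex.mk (f q.1 (G q.1 q.2.down)) (p q.1 (G q.1 q.2.down))
      (w q.1 (G q.1 q.2.down))) fun q => hS _ _) c1 c0 cE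
  have e2 : Λ (∐ g0) = Λ (∐ g1) + Λ (∐ H) := by
    let a' : ∐ g1 ⟶ ∐ g0 := Sigma.desc fun q => Sigma.ι g0 (q.1, ⟨q.2.down + 1⟩)
    let b' : ∐ g0 ⟶ ∐ H := Sigma.desc fun q => match q with
      | (s, ⟨0⟩) => Sigma.ι H s
      | (_, ⟨_ + 1⟩) => 0
    let r : ∐ g0 ⟶ ∐ g1 := Sigma.desc fun q => match q with
      | (_, ⟨0⟩) => 0
      | (s, ⟨m + 1⟩) => Sigma.ι g1 (s, ⟨m⟩)
    let s' : ∐ H ⟶ ∐ g0 := Sigma.desc fun s => Sigma.ι g0 (s, ⟨0⟩)
    have w' : a' ≫ b' = 0 := Sigma.hom_ext _ _ fun ⟨s, ⟨m⟩⟩ => by simp [a', b']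
    refine hΛ.add (ShortComplex.mk a' b' w') (ShortComplex.Splitting.mk r s' ?_ ?_ ?_).shortExact c1 c0 cH
    · exact Sigma.hom_ext _ _ fun ⟨s, ⟨m⟩⟩ => by simp [a', r, g0, g1]
    · exact Sigma.hom_ext _ _ fun s => by simp [s', b']
    · refine Sigma.hom_ext _ _ fun ⟨s, ⟨m⟩⟩ => ?_
      cases m <;> simp [a', b', r, s', g0, g1]
  rw [← hFH, ← add_left_cancel (e1.symm.trans e2)]
  -- comparison with the sheaf of the cycle
  have hpos : ∀ ζ : X, 0 < a ζ → δ ζ = k ∧ Nontrivial (F.presheaf.stalk ζ) := fun ζ h => by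
    simp only [a, Cyc.sheafFun] at h
    split_ifs at h with hζ
    · refine ⟨hζ, not_subsingleton_iff_nontrivial.1 fun hn => ?_⟩
      rw [Module.length_eq_zero_iff.2 hn] at h
      exact lt_irrefl 0 h
    · exact absurd h (lt_irrefl 0)
  let J : Type u := Σ ζ : {ζ : X // 0 < a ζ}, Fin (a ζ.1).toNat
  let pS : J → S := fun j => ⟨j.1.1, hpos _ j.1.2⟩
  have hna : ∀ s : S, a s.1 = (n s : ℤ) := fun s => sheafFun_eq_lenAt s.2.1 F
  have hjm : ∀ j : J, (j.2.1 : ℕ) < n (pS j) := fun j => by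
    have h1 : (j.2.1 : ℕ) < (a (pS j).1).toNat := j.2.2
    have h2 := hna (pS j)
    omega
  let e : J → P := fun j => (pS j, ⟨j.2.1⟩)
  have he : Function.Injective e := by
    rintro ⟨⟨ζ, hζ⟩, m⟩ ⟨⟨ζ', hζ'⟩, m'⟩ h
    obtain rfl : ζ = ζ' := congrArg (fun q : P => q.1.1) h
    obtain rfl : m = m' := Fin.ext (congrArg (fun q : P => q.2.down) h)
    rfl
  have hcmp : ∀ j : J, ∃ θ : (eQ (e j)).presheaf.stalk j.1.1 →ₗ[X.presheaf.stalk j.1.1]
      (Cyc.closureStructureSheaf j.1.1).presheaf.stalk j.1.1, Function.Bijective θ := fun j => by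
    have h1 : lenAt (eQ (e j)) j.1.1 = 1 := by
      show lenAt (Q (pS j) (G (pS j) j.2.1)) (pS j).1 = 1
      rw [lQ, hlen]
      have := hjm j
      omega
    have hfin := length_ne_top_of_suppPt (cQ (pS j) (G (pS j) j.2.1)) (sQ (pS j) (G (pS j) j.2.1))
    have h2 : Module.length (X.presheaf.stalk j.1.1) ((eQ (e j)).presheaf.stalk j.1.1) = 1 := by
      rw [← ENat.coe_toNat hfin]
      exact congrArg _ h1
    obtain ⟨θ⟩ := isSimpleModule_equiv (Module.length_eq_one_iff.1 h2)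
      (Module.length_eq_one_iff.1 (length_closureStructureSheaf_self j.1.1))
    exact ⟨θ.toLinearMap, θ.bijective⟩
  choose θ hθ using hcmp
  choose N ai bi hN hNs hai hbi using fun j : J => exists_graph (cQ (pS j) (G (pS j) j.2.1))
    (isCoh_closureStructureSheaf j.1.1) (sQ (pS j) (G (pS j) j.2.1)) (suppPt_closureStructureSheaf _) (θ j)
  have hNlf : ∀ x : X, ∃ W : Set X, IsOpen W ∧ x ∈ W ∧ {j : J | j.1.1 ∈ W}.Finite := fun x => by
    obtain ⟨W, hW, hx, hfin⟩ := hfib x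
    refine ⟨W, hW, hx, (hfin.biUnion fun s _ => (Set.finite_le_nat (n s)).image fun m => ((s, ⟨m⟩) : P)).preimage
      he.injOn |>.subset fun j hj => ?_⟩
    exact Set.mem_biUnion (x := pS j) hj ⟨j.2.1, le_of_lt (hjm j), rfl⟩
  have hJ : ∀ {g : J → X.Modules}, (∀ j, Coh.IsCoh (g j)) → (∀ j, SuppPt j.1.1 (g j)) → Cyc.CohLe δ k (∐ g) :=
    fun {g} hc hs => cohLe_sigma (locFin_of (fun j => j.1.1) hs fun x => by
        obtain ⟨W, hW, hx, hfin⟩ := hNlf x
        exact ⟨W, hW, hx, hfin.subset fun j hj => hj.1⟩)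
      fun j => cohLe_of_suppPt hd (hc j) (hs j) (dimS (pS j))
  have bij : ∀ (y : X), δ y = k → ∀ (j : J) {M : X.Modules} (φ : N j ⟶ M), SuppPt j.1.1 M →
      Function.Bijective (stalkLin φ j.1.1) → Function.Bijective (stalkLin φ y) := by
    intro y hy j M φ hM hφ
    rcases eq_or_ne y j.1.1 with rfl | hne
    · exact hφ
    · haveI := (hNs j).subsingleton hd hne (by rw [(pS j).2.1, hy])
      haveI := hM.subsingleton hd hne (by rw [(pS j).2.1, hy])
      exact ⟨fun a b _ => Subsingleton.elim a b, fun b => ⟨0, Subsingleton.elim _ _⟩⟩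
  have cN := hJ hN hNs
  have e3 : Λ (∐ N) = Λ (∐ eQ) := by
    refine hΛ.of_bijective cN cE (Sigma.desc fun j => ai j ≫ Sigma.ι eQ (e j)) fun y hy => ?_
    refine bijective_stalk_reindex N eQ y e he (fun q hq => ?_) ai fun j => bij y hy j (ai j) (sQ _ _) (hai j)
    rcases eq_or_ne y q.1.1 with rfl | hne
    · refine subsingleton_of_lenAt_eq_zero (length_ne_top_of_suppPt (cQ _ _) (sQ _ _)) ?_
      show lenAt (Q q.1 (G q.1 q.2.down)) q.1.1 = 0
      rw [lQ, hlen]
      by_contra h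
      have hlt : q.2.down < n q.1 := by omega
      refine hq ⟨⟨⟨q.1.1, by rw [hna q.1]; omega⟩, ⟨q.2.down, ?_⟩⟩, Prod.ext (Subtype.ext rfl) rfl⟩
      rw [hna q.1, Int.toNat_natCast]
      exact hlt
    · exact (sQ _ _).subsingleton hd hne (by rw [q.1.2.1, hy])
  let gC : J → X.Modules := fun j => Cyc.closureStructureSheaf j.1.1
  have cC : Cyc.CohLe δ k (∐ gC) :=
    hJ (g := gC) (fun j => isCoh_closureStructureSheaf _) fun j => suppPt_closureStructureSheaf _
  have e4 : Λ (∐ N) = Λ (∐ gC) := by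
    refine hΛ.of_bijective cN cC (Sigma.desc fun j => bi j ≫ Sigma.ι gC j) fun y hy => ?_
    refine bijective_stalk_map N gC y bi fun j => bij y hy j (bi j) (suppPt_closureStructureSheaf _) ?_
    have hfun : ⇑(stalkLin (bi j) j.1.1) = θ j ∘ stalkLin (ai j) j.1.1 := funext (hbi j)
    rw [hfun]
    exact (hθ j).comp (hai j)
  exact e3.symm.trans e4

include hd in
/-- Modules with the same cycle have the same value. -/
theorem IsChar.congr (hΛ : IsChar δ k Λ) {F F' : X.Modules} (hF : Cyc.CohLe δ k F) (hF' : Cyc.CohLe δ k F')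
    (h : Cyc.sheafFun δ k F = Cyc.sheafFun δ k F') : Λ F = Λ F' := by
  rw [hΛ.eq_cycleSheaf hd hF, hΛ.eq_cycleSheaf hd hF', h]

end Groth.Agent.Vol26
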