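import Groth.Agent.Lib.Vol26.Vol
import Groth.Agent.Lib.Cyc26.Stalk

/-! # Functoriality of volumes -/

set_option autoImplicit false
set_option linter.style.haveILetI false

universe u v

open Submodule

noncomputable section

namespace Groth.Agent.Vol26

variable {R : Type u} [CommRing R] [IsLocalRing R] {N N' : Type u} [AddCommGroup N] [Module R N]
  [AddCommGroup N'] [Module R N']
  {ι : Type v} {P : ι → Pl R}

theorem covBy_map {f : N' →ₗ[R] N} (hf : Function.Injective f) {W U : Submodule R N'} (h : W ⋖ U) :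
    W.map f ⋖ U.map f := by
  refine ⟨(Submodule.map_strictMono_of_injective hf) h.lt, fun V h1 h2 => ?_⟩
  have e : (V.comap f).map f = V :=
    Submodule.map_comap_eq_self (h2.le.trans LinearMap.map_le_range)
  refine h.2 (c := V.comap f) ?_ ?_
  · refine lt_of_le_of_ne (Submodule.map_le_iff_le_comap.1 h1.le) fun he => h1.ne ?_
    rw [he, e]
  · have h3 : V.comap f ≤ U := (Submodule.comap_mono h2.le).trans_eq (Submodule.comap_map_eq_of_injective hf U)
    refine lt_of_le_of_ne h3 fun he => h2.ne ?_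
    rw [← he, e]

theorem covBy_comap {g : N →ₗ[R] N'} (hg : Function.Surjective g) {W U : Submodule R N'} (h : W ⋖ U) :
    W.comap g ⋖ U.comap g := by
  refine ⟨(Submodule.comap_strictMono_of_surjective hg) h.lt, fun V h1 h2 => ?_⟩
  have hk : LinearMap.ker g ≤ V := le_trans (fun x hx => by simp [Submodule.mem_comap, LinearMap.mem_ker.1 hx]) h1.le
  have e : (V.map g).comap g = V := by rw [Submodule.comap_map_eq, sup_eq_left.2 hk]
  refine h.2 (c := V.map g) ?_ ?_
  · refine lt_of_le_of_ne ?_ fun he => h1.ne ?_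
    · exact (Submodule.map_comap_eq_of_surjective hg W).symm.le.trans (Submodule.map_mono h1.le)
    · rw [he, e]
  · refine lt_of_le_of_ne ?_ fun he => h2.ne ?_
    · exact (Submodule.map_mono h2.le).trans_eq (Submodule.map_comap_eq_of_surjective hg U)
    · rw [← he, e]

section inj

variable {w : Pl R} (L : Lat w N) (L' : Lat w N') (f : N' →ₗ[R] N) (g : L'.M →ₗ[w.A] L.M)

/-- The part of the preimage of a submodule not coming from the smaller lattice. -/
def defect (U : Submodule R N') : ℕ∞ :=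
  Module.length w.A (↥((U.map f).comap L.l) ⧸
    ((LinearMap.range g ⊔ LinearMap.ker L.l) ⊓ (U.map f).comap L.l).submoduleOf ((U.map f).comap L.l))

theorem defect_bot : defect L L' f g ⊥ = 0 := by
  refine Module.length_eq_zero_iff.2 (Submodule.Quotient.subsingleton_iff.2 (eq_top_iff.2 fun x _ => ?_))
  refine ⟨Submodule.mem_sup_right ?_, x.2⟩
  obtain ⟨y, hy, hxy⟩ := (x.2 : L.l x.1 ∈ Submodule.map f ⊥)
  show L.l x.1 = 0
  rw [← hxy, (Submodule.mem_bot R).1 hy, map_zero]

theorem defect_step (hf : Function.Injective f) (hfg : ∀ m, L.l (g m) = f (L'.l m))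
    {W U : Submodule R N'} (h : W ⋖ U) {e : N'} (he : e ∈ U) (hW : e ∉ W) (hfin : defect L L' f g W < ⊤) :
    defect L L' f g U < ⊤ ∧
      pieceDeg L (W.map f) (f e) =
        pieceDeg L' W e + ((defect L L' f g U).toNat : ℤ) - ((defect L L' f g W).toNat : ℤ) := by
  have hc := covBy_map hf h
  have hfe : f e ∈ U.map f := ⟨e, he, rfl⟩
  have hfW : f e ∉ W.map f := fun ⟨x, hx, hxe⟩ => hW (hf hxe ▸ hx)
  haveI := isLattice_piece L hc hfe hfW
  haveI := isLattice_piece L' h he hW
  haveI := isLattice_unitLat (w := w)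
  set QW := (W.map f).comap L.l
  set QU := (U.map f).comap L.l
  set Z := LinearMap.range g ⊔ LinearMap.ker L.l
  have hQ : QW ≤ QU := Submodule.comap_mono (Submodule.map_mono h.le)
  have hpp : piece L' W e ≤ piece L (W.map f) (f e) := by
    rintro c ⟨m, r, rfl, hm⟩
    exact ⟨g m, r, rfl, ⟨_, hm, by rw [map_sub, map_smul, hfg]⟩⟩
  set p := piece L (W.map f) (f e)
  set p' := (piece L' W e).submoduleOf p
  have hr : ∀ m : QU, ∃ r, L.l m.1 - r • f e ∈ W.map f := fun m => exists_sub_smul_mem hc hfe hfW m.2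
  choose r hr' using hr
  let toP : QU → p := fun m => ⟨IsLocalRing.residue R (r m), m.1, r m, rfl, hr' m⟩
  let θ : QU →+ ↥p ⧸ p' := AddMonoidHom.mk' (fun m => p'.mkQ (toP m)) fun m m' => by
    rw [← map_add]
    refine congrArg _ (Subtype.ext ?_)
    show IsLocalRing.residue R (r (m + m')) = IsLocalRing.residue R (r m) + IsLocalRing.residue R (r m')
    rw [← map_add]
    refine residue_unique hc hfe hfW (hr' (m + m')) ?_
    have := (W.map f).add_mem (hr' m) (hr' m')
    rw [sub_add_sub_comm, ← add_smul, ← map_add] at this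
    exact this
  have hθs : Function.Surjective θ := by
    intro z
    obtain ⟨⟨c, m, t, hc', hm⟩, rfl⟩ := p'.mkQ_surjective z
    have hmU : m ∈ QU := by
      have := (U.map f).add_mem (hc.le hm) ((U.map f).smul_mem t hfe)
      rwa [sub_add_cancel] at this
    refine ⟨⟨m, hmU⟩, ?_⟩
    show p'.mkQ (toP ⟨m, hmU⟩) = _
    exact congrArg _ (Subtype.ext ((residue_unique hc hfe hfW (hr' ⟨m, hmU⟩) hm).trans hc'))
  have hθsmul : ∀ (a : w.A) (m : QU), θ (a • m) = (Ideal.Quotient.mk _ a : w.Q) • θ m := by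
    intro a m
    show p'.mkQ (toP (a • m)) = (Ideal.Quotient.mk _ a : w.Q) • p'.mkQ (toP m)
    rw [← map_smul]
    refine congrArg _ (Subtype.ext ?_)
    show IsLocalRing.residue R (r (a • m)) = (Ideal.Quotient.mk _ a : w.Q) • IsLocalRing.residue R (r m)
    rw [Algebra.smul_def, w.algebraMap_mk, w.res_apply, ← map_mul]
    refine residue_unique hc hfe hfW (hr' (a • m)) ?_
    show L.l (a • m.1) - _ ∈ _
    rw [LinearMap.map_smulₛₗ, mul_smul, ← smul_sub]
    exact (W.map f).smul_mem _ (hr' m)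
  set K : Submodule w.A L.M := (Z ⊓ QU) ⊔ QW
  have hK : K ≤ QU := sup_le inf_le_right hQ
  have hθK : ∀ m : QU, θ m = 0 ↔ m.1 ∈ K := by
    intro m
    show p'.mkQ (toP m) = 0 ↔ _
    rw [Submodule.mkQ_apply, Submodule.Quotient.mk_eq_zero]
    show IsLocalRing.residue R (r m) ∈ piece L' W e ↔ _
    constructor
    · rintro ⟨m', r', hr1, hm'⟩
      refine Submodule.mem_sup.2 ⟨g m', ⟨Submodule.mem_sup_left ⟨m', rfl⟩, ?_⟩, m.1 - g m', ?_, add_sub_cancel _ _⟩
      · show L.l (g m') ∈ U.map f
        rw [hfg]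
        refine ⟨_, ?_, rfl⟩
        have := U.add_mem (h.le hm') (U.smul_mem r' he)
        rwa [sub_add_cancel] at this
      · show L.l (m.1 - g m') ∈ W.map f
        have h1 : (r m - r') • f e ∈ W.map f := (smul_mem_iff_residue hc hfe hfW _).2 (by rw [map_sub, hr1, sub_self])
        have h2 : f (L'.l m' - r' • e) ∈ W.map f := ⟨_, hm', rfl⟩
        have := (W.map f).add_mem ((W.map f).sub_mem (hr' m) h2) h1
        convert this using 1
        rw [map_sub, hfg, map_sub, map_smul, sub_smul]; abel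
    · intro hm
      obtain ⟨y, ⟨hy, hyU⟩, z, hz, hyz⟩ := Submodule.mem_sup.1 hm
      obtain ⟨_, ⟨m', rfl⟩, k, hk, rfl⟩ := Submodule.mem_sup.1 hy
      have hkl : L.l k = 0 := hk
      have hm'U : L'.l m' ∈ U := by
        have h1 : L.l (g m' + k) ∈ U.map f := hyU
        rw [map_add, hkl, add_zero, hfg] at h1
        obtain ⟨x, hx, hxe⟩ := h1
        exact hf hxe ▸ hx
      obtain ⟨t, ht⟩ := exists_sub_smul_mem h he hW hm'U
      refine ⟨m', t, residue_unique hc hfe hfW ?_ (hr' m), ht⟩
      have h1 : f (L'.l m' - t • e) ∈ W.map f := ⟨_, ht, rfl⟩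
      have h2 := (W.map f).add_mem h1 (show L.l z ∈ W.map f from hz)
      convert h2 using 1
      rw [← hyz, map_add, map_add, hkl, hfg, map_sub, map_smul]; abel
  let θl : QU →ₛₗ[(Ideal.Quotient.mk _ : w.A →+* w.Q)] ↥p ⧸ p' := { θ with map_smul' := hθsmul }
  have hker : LinearMap.ker θl = K.submoduleOf QU := Submodule.ext hθK
  have hbij : Function.Bijective ((K.submoduleOf QU).liftQ θl hker.ge) := by
    refine ⟨LinearMap.ker_eq_bot.1 (Submodule.ker_liftQ_eq_bot _ _ _ hker.le), fun z => ?_⟩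
    obtain ⟨m, rfl⟩ := hθs z
    exact ⟨Submodule.Quotient.mk m, rfl⟩
  have hlen : Module.length w.A (↥QU ⧸ K.submoduleOf QU) = Module.length w.Q (↥p ⧸ p') :=
    Cyc26.length_eq_of_semilinear _ Ideal.Quotient.mk_surjective
      (AddEquiv.ofBijective ((K.submoduleOf QU).liftQ θl hker.ge).toAddMonoidHom hbij)
      fun a z => LinearMap.map_smulₛₗ ((K.submoduleOf QU).liftQ θl hker.ge) a z
  have hU : defect L L' f g U = defect L L' f g W + Module.length w.Q (↥p ⧸ p') := by
    show Module.length w.A (↥QU ⧸ (Z ⊓ QU).submoduleOf QU) = Module.length w.A (↥QW ⧸ (Z ⊓ QW).submoduleOf QW) + _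
    rw [← hlen, Module.length_eq_add_of_exact
      (Submodule.mapQ ((Z ⊓ QW).submoduleOf QW) ((Z ⊓ QU).submoduleOf QU) (Submodule.inclusion hQ)
        fun x hx => show x.1 ∈ Z ⊓ QU from ⟨(hx : x.1 ∈ Z ⊓ QW).1, hQ x.2⟩)
      (Submodule.factor (p := (Z ⊓ QU).submoduleOf QU) (p' := K.submoduleOf QU)
        fun x hx => Submodule.mem_sup_left (S := Z ⊓ QU) hx) ?_ (Submodule.factor_surjective _) ?_]
    · intro a b hab
      obtain ⟨a, rfl⟩ := Submodule.Quotient.mk_surjective _ a
      obtain ⟨b, rfl⟩ := Submodule.Quotient.mk_surjective _ b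
      have hab' : Submodule.Quotient.mk (p := (Z ⊓ QU).submoduleOf QU) (Submodule.inclusion hQ a) =
          Submodule.Quotient.mk (Submodule.inclusion hQ b) := hab
      have h0 := (Submodule.Quotient.eq ((Z ⊓ QU).submoduleOf QU)).1 hab'
      have h1 : (a - b).1 ∈ Z ⊓ QU := h0
      exact (Submodule.Quotient.eq _).2 (show (a - b).1 ∈ Z ⊓ QW from ⟨h1.1, (a - b).2⟩)
    · intro z
      obtain ⟨⟨x, hx⟩, rfl⟩ := Submodule.Quotient.mk_surjective _ z
      constructor
      · intro h0
        obtain ⟨y, hy, z', hz', hyz⟩ := Submodule.mem_sup.1 ((Submodule.Quotient.mk_eq_zero (K.submoduleOf QU)).1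
          (h0 : Submodule.Quotient.mk (p := K.submoduleOf QU) ⟨x, hx⟩ = 0))
        refine ⟨Submodule.Quotient.mk ⟨z', hz'⟩, (Submodule.Quotient.eq _).2 ?_⟩
        show z' - x ∈ Z ⊓ QU
        have hyz' : y + z' = x := hyz
        rw [show z' - x = -y by rw [← hyz']; abel]
        exact neg_mem hy
      · rintro ⟨q, hq⟩
        obtain ⟨⟨z', hz'⟩, rfl⟩ := Submodule.Quotient.mk_surjective _ q
        rw [← hq]
        exact (Submodule.Quotient.mk_eq_zero _).2 (Submodule.mem_sup_right hz')
  have hqfin := Lattice26.quotient_length_lt_top (IsLocalRing.ResidueField R) w.dim p (piece L' W e)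
  have hd := Lattice26.dist_add (IsLocalRing.ResidueField R) w.dim p (piece L' W e) (unitLat w)
  have key : Lattice26.dist p (piece L' W e) = ((Module.length w.Q (↥p ⧸ p')).toNat : ℤ) := by
    rw [Lattice26.dist, inf_eq_right.2 hpp, Submodule.submoduleOf_self,
      Module.length_eq_zero_iff.2 (inferInstance : Subsingleton (↥(piece L' W e) ⧸ (⊤ : Submodule w.Q (piece L' W e))))]
    simp [p']
  refine ⟨hU ▸ WithTop.add_lt_top.2 ⟨hfin, hqfin⟩, ?_⟩
  show Lattice26.dist p (unitLat w) = Lattice26.dist (piece L' W e) (unitLat w) + _ - _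
  rw [hd, key, hU, ENat.toNat_add hfin.ne hqfin.ne]
  push_cast
  ring

end inj

variable [IsArtinian R N] [IsNoetherian R N] [IsArtinian R N'] [IsNoetherian R N'] (L : ∀ i, Lat (P i) N) (L' : ∀ i, Lat (P i) N')

theorem vol_map {f : N' →ₗ[R] N} (hf : Function.Injective f) (g : ∀ i, (L' i).M →ₗ[(P i).A] (L i).M)
    (hfg : ∀ i m, (L i).l (g i m) = f ((L' i).l m)) (U : Submodule R N') :
    (∀ i, defect (L i) (L' i) f (g i) U < ⊤) ∧
      vol L (U.map f) = vol L' U + QuotientAddGroup.mk fun i => ((defect (L i) (L' i) f (g i) U).toNat : ℤ) := by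
  induction U using cover_induction with
  | hbot =>
    refine ⟨fun i => by rw [defect_bot]; exact WithTop.coe_lt_top 0, ?_⟩
    rw [Submodule.map_bot, vol_bot, vol_bot, zero_add]
    exact ((QuotientAddGroup.mk' _).map_zero.symm.trans (congrArg _ (funext fun i => by simp [defect_bot])))
  | step W U e h he hW ih =>
    have hs := fun i => defect_step (L i) (L' i) f (g i) hf (hfg i) h he hW (ih.1 i)
    refine ⟨fun i => (hs i).1, ?_⟩
    rw [vol_cover L (covBy_map hf h) (e := f e) ⟨e, he, rfl⟩ (fun ⟨x, hx, hxe⟩ => hW (hf hxe ▸ hx)),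
      vol_cover L' h he hW, ih.2, add_assoc, add_assoc]
    congr 1
    show QuotientAddGroup.mk' _ _ + QuotientAddGroup.mk' _ _ = QuotientAddGroup.mk' _ _ + QuotientAddGroup.mk' _ _
    rw [← map_add, ← map_add]
    refine congrArg _ (funext fun i => ?_)
    show _ + pieceDeg (L i) _ _ = pieceDeg (L' i) _ _ + _
    rw [(hs i).2]
    ring

set_option maxHeartbeats 800000 in
theorem vol_comap {g : N →ₗ[R] N'} (hg : Function.Surjective g) (gM : ∀ i, (L i).M →ₗ[(P i).A] (L' i).M)
    (hgM : ∀ i, Function.Surjective (gM i)) (hl : ∀ i m, (L' i).l (gM i m) = g ((L i).l m)) (U : Submodule R N') :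
    vol L (U.comap g) = vol L (LinearMap.ker g) + vol L' U := by
  induction U using cover_induction with
  | hbot => rw [Submodule.comap_bot, vol_bot, add_zero]
  | step W U e h he hW ih =>
    obtain ⟨x, rfl⟩ := hg e
    have hd : dd L (W.comap g) x = dd L' W (g x) := by
      unfold dd
      refine congrArg _ (funext fun i => ?_)
      unfold pieceDeg
      congr 1
      ext c
      constructor
      · rintro ⟨m, r, hr, hm⟩
        refine ⟨gM i m, r, hr, ?_⟩
        have h1 : g ((L i).l m - r • x) ∈ W := hm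
        rwa [map_sub, map_smul, ← hl] at h1
      · rintro ⟨m', r, hr, hm⟩
        obtain ⟨m, rfl⟩ := hgM i m'
        refine ⟨m, r, hr, ?_⟩
        show g ((L i).l m - r • x) ∈ W
        rwa [map_sub, map_smul, ← hl]
    rw [vol_cover L (covBy_comap hg h) (e := x) he hW, vol_cover L' h he hW, ih, hd, add_assoc]

end Groth.Agent.Vol26
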