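import Groth.Agent.Lib.Vol26.Stalks
import Groth.Agent.Lib.Cyc26.RatFun

/-! # The homomorphism from coherent sheaves to cycles modulo rational equivalence -/

set_option autoImplicit false
set_option linter.style.haveILetI false

universe u

open CategoryTheory AlgebraicGeometry TopologicalSpace Groth.Agent.M1

set_option backward.isDefEq.respectTransparency false
set_option backward.isDefEq.respectTransparency.types false
set_option linter.unusedSectionVars false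

noncomputable section

namespace Groth.Agent.Vol26

variable {X : Scheme.{u}} [IsLocallyNoetherian X]

/-- Functions on points modulo sums of principal divisors. -/
def ratSub (δ : X → ℤ) (k : ℤ) : AddSubgroup (X → ℤ) where
  carrier := {G | Cyc26.RatFun δ k Set.univ G}
  zero_mem' := Cyc26.RatFun.zero fun _ => rfl
  add_mem' := fun ha hb => ha.add hb
  neg_mem' := fun ha => ha.neg

variable {δ : X → ℤ} (hd : Cyc.IsDimFun X δ) {k : ℤ}

/-- Orders of one rational function on each point assemble to a sum of principal divisors. -/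
theorem mem_ratSub {S : Set X} (hS : ∀ ξ ∈ S, δ ξ = k + 1)
    (hfin : ∀ x : X, ∃ W : Set X, IsOpen W ∧ x ∈ W ∧ (S ∩ W).Finite)
    (φ : (ξ : X) → Below δ ξ → ℤ) (hφ : ∀ ξ ∈ S, φ ξ ∈ ordGroup (plc hd ξ))
    (h0 : ∀ ξ ∉ S, φ ξ = 0) {G : X → ℤ} (hk : ∀ x, δ x ≠ k → G x = 0)
    (hG : ∀ x (hx : δ x = k), G x = ∑ᶠ ξ : Above δ k x, φ ξ.1 ⟨x, ξ.2.1, by rw [hx, ξ.2.2]⟩) :
    G ∈ ratSub δ k := by
  classical
  choose f hf0 hf using hφ
  let Fn : (ξ : X) → X.residueField ξ := fun ξ => if h : ξ ∈ S then f ξ h else 1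
  have hone : ∀ (ξ : X) (i : Below δ ξ), Cyc.divFun δ ξ (1 : X.residueField ξ) i.1 = 0 := fun ξ i => by
    rw [← ord_plc hd ξ i]; exact Pl.ord_one _
  have hdiv : ∀ (ξ : X) (i : Below δ ξ), φ ξ i = Cyc.divFun δ ξ (Fn ξ) i.1 := by
    intro ξ i
    by_cases h : ξ ∈ S
    · rw [show Fn ξ = f ξ h from dif_pos h, ← ord_plc hd ξ i]
      exact hf ξ h i
    · rw [show Fn ξ = 1 from dif_neg h, hone, h0 ξ h]
      rfl
  have hsupp : ∀ ξ, Fn ξ ≠ 1 → ξ ∈ S := fun ξ h => by_contra fun h' => h (dif_neg h')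
  refine Cyc26.RatFun.of_total Fn (fun ξ => ?_) (fun ξ h => ⟨hS ξ (hsupp ξ h), trivial⟩) (fun x => ?_) fun x => ?_
  · by_cases h : ξ ∈ S
    · rw [show Fn ξ = f ξ h from dif_pos h]; exact hf0 ξ h
    · rw [show Fn ξ = 1 from dif_neg h]; exact one_ne_zero
  · obtain ⟨W, hW, hx, hfW⟩ := hfin x
    exact ⟨W, hW, hx, hfW.subset fun ξ hξ => ⟨hsupp ξ hξ.2, hξ.1⟩⟩
  rw [finsum_subtype_eq_finsum_cond (f := fun ξ => Cyc.divFun δ ξ (Fn ξ) x) (fun ξ => Fn ξ ≠ 1)]
  have hdrop : ∀ ξ, (∑ᶠ (_ : Fn ξ ≠ 1), Cyc.divFun δ ξ (Fn ξ) x) = Cyc.divFun δ ξ (Fn ξ) x := by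
    intro ξ
    by_cases h : Fn ξ ≠ 1
    · rw [finsum_eq_if, if_pos h]
    · rw [finsum_eq_if, if_neg h, not_not.1 h]
      by_cases hb : ξ ⤳ x ∧ δ x + 1 = δ ξ
      · exact (hone ξ ⟨x, hb⟩).symm
      · rw [Cyc.divFun, dif_neg hb]
  rw [finsum_congr hdrop]
  have hne : ∀ ξ, Cyc.divFun δ ξ (Fn ξ) x ≠ 0 → (ξ ⤳ x ∧ δ x + 1 = δ ξ) ∧ δ ξ = k + 1 := by
    intro ξ h
    have hb : ξ ⤳ x ∧ δ x + 1 = δ ξ := by
      by_contra hb
      exact h (dif_neg hb)
    refine ⟨hb, hS ξ (hsupp ξ fun h1 => h ?_)⟩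
    rw [h1]
    exact hone ξ ⟨x, hb⟩
  by_cases hx : δ x = k
  · rw [hG x hx, finsum_congr (fun ξ : Above δ k x => hdiv ξ.1 _),
      finsum_subtype_eq_finsum_cond (f := fun ξ => Cyc.divFun δ ξ (Fn ξ) x) (fun ξ => ξ ⤳ x ∧ δ ξ = k + 1)]
    refine finsum_congr fun ξ => ?_
    rw [finsum_eq_if]
    split_ifs with h
    · rfl
    · by_contra hc
      obtain ⟨hb, hξ⟩ := hne ξ (fun h0 => hc h0.symm)
      exact h ⟨hb.1, hξ⟩
  · rw [hk x hx]
    refine (finsum_eq_zero_of_forall_eq_zero fun ξ => ?_).symm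
    by_contra hc
    obtain ⟨hb, hξ⟩ := hne ξ hc
    omega

theorem length_pi_of_support {R : Type*} [Ring R] {κ : Type*} {M : κ → Type*} [∀ i, AddCommGroup (M i)]
    [∀ i, Module R (M i)] (T : Finset κ) (h : ∀ i ∉ T, Subsingleton (M i)) :
    Module.length R (∀ i, M i) = ∑ i ∈ T, Module.length R (M i) := by
  classical
  let π : (∀ i, M i) →ₗ[R] ∀ i : T, M i.1 := LinearMap.pi fun i => LinearMap.proj i.1
  have hb : Function.Bijective π := by
    refine ⟨fun a b hab => funext fun i => ?_, fun c => ?_⟩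
    · by_cases hi : i ∈ T
      · exact congrFun hab ⟨i, hi⟩
      · haveI := h i hi; exact Subsingleton.elim _ _
    · exact ⟨fun i => if hi : i ∈ T then c ⟨i, hi⟩ else 0, funext fun i => by simp [π]⟩
  rw [(LinearEquiv.ofBijective π hb).length_eq, Module.length_pi_of_fintype,
    Finset.sum_coe_sort T fun i => Module.length R (M i)]

theorem length_perH_zero {A : Type*} [CommRing A] {M N : Type u} [AddCommGroup M] [Module A M] [AddCommGroup N]
    [Module A N] (φ : M →ₗ[A] N) (h : ∀ m, φ m = 0) :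
    Module.length A (CycAlg.perH φ (0 : N →ₗ[A] M)) = Module.length A M := by
  have hbot : (LinearMap.range (0 : N →ₗ[A] M)).submoduleOf (LinearMap.ker φ) = ⊥ := by
    rw [LinearMap.range_zero]
    exact Submodule.ext fun z => by simp [Submodule.submoduleOf]
  exact ((Submodule.quotEquivOfEqBot _ hbot).trans
    ((LinearEquiv.ofEq _ _ (eq_top_iff.2 fun m _ => h m)).trans Submodule.topEquiv)).length_eq

variable {F : X.Modules} (hF : Coh.IsCoh F) (hdim : ∀ x : X, Nontrivial (F.presheaf.stalk x) → δ x ≤ k + 1)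

open scoped Classical in
/-- A representative of the volume at a point. -/
def volRep (ξ : X) : Below δ ξ → ℤ :=
  if h : δ ξ = k + 1 ∧ Nontrivial (F.presheaf.stalk ξ) then
    haveI := (isFiniteLength_stalk hd hF hdim h.1).1
    (vol (stalkLat hd hF ξ) ⊤).out
  else 0

/-- The volume at a point of dimension `k + 1`. -/
theorem mk_volRep {ξ : X} (hξ : δ ξ = k + 1) :
    haveI := (isFiniteLength_stalk hd hF hdim hξ).1
    (QuotientAddGroup.mk (volRep hd hF hdim ξ) : Cls (plc hd ξ)) = vol (stalkLat hd hF ξ) ⊤ := by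
  haveI := (isFiniteLength_stalk hd hF hdim hξ).1
  haveI := (isFiniteLength_stalk hd hF hdim hξ).2
  unfold volRep
  split_ifs with h
  · exact QuotientAddGroup.out_eq' _
  · haveI : Subsingleton (F.presheaf.stalk ξ) := not_nontrivial_iff_subsingleton.1 fun hn => h ⟨hξ, hn⟩
    rw [show (⊤ : Submodule (X.presheaf.stalk ξ) (F.presheaf.stalk ξ)) = ⊥ from Subsingleton.elim _ _, vol_bot]
    rfl

theorem volRep_eq_zero {ξ : X} (h : ¬ (δ ξ = k + 1 ∧ Nontrivial (F.presheaf.stalk ξ))) :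
    volRep hd hF hdim ξ = 0 := dif_neg h

open scoped Classical in
/-- The cycle attached to a coherent sheaf, before passing to classes. -/
def phiFun (x : X) : ℤ :=
  if hx : δ x = k then
    (∑ᶠ ξ : Above δ k x, volRep hd hF hdim ξ.1 ⟨x, ξ.2.1, by rw [hx, ξ.2.2]⟩) +
      CycAlg.herbrand (X.presheaf.stalk x) (diag δ k F x) 0
  else 0

/-- The class attached to a coherent sheaf. -/
def Phi : (X → ℤ) ⧸ ratSub δ k := QuotientAddGroup.mk (phiFun hd hF hdim)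

include hd in
/-- For a sheaf supported in dimension `k` the class is the cycle of the sheaf. -/
theorem phiFun_eq_sheafFun (hdim' : ∀ x : X, Nontrivial (F.presheaf.stalk x) → δ x ≤ k) :
    phiFun hd hF hdim = Cyc.sheafFun δ k F := by
  funext x
  unfold phiFun Cyc.sheafFun
  by_cases hx : δ x = k
  swap
  · rw [dif_neg hx, if_neg hx]
  rw [dif_pos hx, if_pos hx]
  have hz : ∀ ξ : Above δ k x, ¬ Nontrivial (F.presheaf.stalk ξ.1) := fun ξ hn => by
    have := hdim' ξ.1 hn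
    have := ξ.2.2
    omega
  rw [finsum_eq_zero_of_forall_eq_zero (fun ξ : Above δ k x => by
    rw [volRep_eq_zero hd hF hdim fun h => hz ξ h.2]; rfl), zero_add]
  haveI : ∀ ξ : Above δ k x, Subsingleton (F.presheaf.stalk x ⧸ kerSpec F ξ.2.1) := fun ξ =>
    Submodule.Quotient.subsingleton_iff.2 (kerSpec_eq_top _ (hz ξ))
  rw [CycAlg.herbrand]
  have h1 : Module.length (X.presheaf.stalk x) (CycAlg.perH (0 : _ →ₗ[X.presheaf.stalk x] _) (diag δ k F x)) = 0 :=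
    Module.length_eq_zero_iff.2 inferInstance
  rw [h1, length_perH_zero _ fun m => Subsingleton.elim _ _]
  simp

theorem stalkLin_specializes {M N : X.Modules} (φ : M ⟶ N) {x ξ : X} (h : ξ ⤳ x) (m : M.presheaf.stalk x) :
    N.presheaf.stalkSpecializes h (Cyc26.stalkLin φ x m) = Cyc26.stalkLin φ ξ (M.presheaf.stalkSpecializes h m) := by
  obtain ⟨W, hW, s, rfl⟩ := M.presheaf.exists_germ_eq m
  show N.presheaf.stalkSpecializes h ((stalkAb x).map φ (M.presheaf.germ W x hW s)) =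
    (stalkAb ξ).map φ (M.presheaf.stalkSpecializes h (M.presheaf.germ W x hW s))
  rw [TopCat.Presheaf.germ_stalkSpecializes_apply, germ_naturality, germ_naturality,
    TopCat.Presheaf.germ_stalkSpecializes_apply]

/-- The class is additive in short exact sequences. -/
theorem Phi_shortExact {T : ShortComplex X.Modules} (hT : T.ShortExact) (h1 : Coh.IsCoh T.X₁) (h2 : Coh.IsCoh T.X₂)
    (h3 : Coh.IsCoh T.X₃) (d1 : ∀ x : X, Nontrivial (T.X₁.presheaf.stalk x) → δ x ≤ k + 1)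
    (d2 : ∀ x : X, Nontrivial (T.X₂.presheaf.stalk x) → δ x ≤ k + 1)
    (d3 : ∀ x : X, Nontrivial (T.X₃.presheaf.stalk x) → δ x ≤ k + 1) :
    Phi hd h2 d2 = Phi hd h1 d1 + Phi hd h3 d3 := by
  classical
  have hex := fun x => Cyc26.stalkLin_exact hT x
  -- the defect at each point
  let df : (ξ : X) → Below δ ξ → ℕ∞ := fun ξ i =>
    defect (stalkLat hd h2 ξ i) (stalkLat hd h1 ξ i) (Cyc26.stalkLin T.f ξ) (Cyc26.stalkLin T.f i.1) ⊤
  let dfi : (ξ : X) → Below δ ξ → ℤ := fun ξ =>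
    if δ ξ = k + 1 ∧ Nontrivial (T.X₂.presheaf.stalk ξ) then fun i => ((df ξ i).toNat : ℤ) else 0
  let φ : (ξ : X) → Below δ ξ → ℤ := fun ξ =>
    volRep hd h2 d2 ξ - volRep hd h1 d1 ξ - volRep hd h3 d3 ξ - dfi ξ
  have nt1 : ∀ y, Nontrivial (T.X₁.presheaf.stalk y) → Nontrivial (T.X₂.presheaf.stalk y) := fun y hy =>
    (hex y).1.nontrivial
  have nt3 : ∀ y, Nontrivial (T.X₃.presheaf.stalk y) → Nontrivial (T.X₂.presheaf.stalk y) := fun y hy =>
    (hex y).2.2.nontrivial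
  let S : Set X := {ξ | δ ξ = k + 1 ∧ Nontrivial (T.X₂.presheaf.stalk ξ)}
  have h0 : ∀ ξ ∉ S, φ ξ = 0 := by
    intro ξ hξ
    simp only [φ, dfi]
    rw [volRep_eq_zero hd h2 d2 hξ, volRep_eq_zero hd h1 d1 fun h => hξ ⟨h.1, nt1 _ h.2⟩,
      volRep_eq_zero hd h3 d3 fun h => hξ ⟨h.1, nt3 _ h.2⟩, if_neg (show ¬ (δ ξ = k + 1 ∧ _) from hξ)]
    simp
  have hφ : ∀ ξ ∈ S, φ ξ ∈ ordGroup (plc hd ξ) := by
    intro ξ hξ
    haveI := (isFiniteLength_stalk hd h1 d1 hξ.1).1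
    haveI := (isFiniteLength_stalk hd h1 d1 hξ.1).2
    haveI := (isFiniteLength_stalk hd h2 d2 hξ.1).1
    haveI := (isFiniteLength_stalk hd h2 d2 hξ.1).2
    haveI := (isFiniteLength_stalk hd h3 d3 hξ.1).1
    haveI := (isFiniteLength_stalk hd h3 d3 hξ.1).2
    obtain ⟨hinj, hexact, hsurj⟩ := hex ξ
    have e1 := (vol_map (stalkLat hd h2 ξ) (stalkLat hd h1 ξ) hinj (fun i => Cyc26.stalkLin T.f i.1)
      (fun i m => stalkLin_specializes T.f i.2.1 m) ⊤).2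
    have e2 := vol_comap (stalkLat hd h2 ξ) (stalkLat hd h3 ξ) hsurj (fun i => Cyc26.stalkLin T.g i.1)
      (fun i => (hex i.1).2.2) (fun i m => stalkLin_specializes T.g i.2.1 m) ⊤
    rw [Submodule.map_top, ← hexact.linearMap_ker_eq] at e1
    rw [Submodule.comap_top, e1, ← mk_volRep hd h2 d2 hξ.1, ← mk_volRep hd h1 d1 hξ.1,
      ← mk_volRep hd h3 d3 hξ.1] at e2
    rw [← QuotientAddGroup.eq_zero_iff]
    show QuotientAddGroup.mk' _ (φ ξ) = 0
    simp only [φ, map_sub, dfi, if_pos (show δ ξ = k + 1 ∧ Nontrivial (T.X₂.presheaf.stalk ξ) from hξ)]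
    rw [show QuotientAddGroup.mk' (ordGroup (plc hd ξ)) (volRep hd h2 d2 ξ) = _ from e2]
    show QuotientAddGroup.mk' _ _ + QuotientAddGroup.mk' _ _ + QuotientAddGroup.mk' _ _ - _ - _ - _ = 0
    abel
  unfold Phi
  refine (QuotientAddGroup.eq_iff_sub_mem).2 ?_
  refine mem_ratSub hd (S := S) (fun ξ h => h.1) (fun x => ?_) φ hφ h0 (fun x hx => ?_) fun x hx => ?_
  · obtain ⟨U, hU, hxU, -⟩ := exists_isAffineOpen_mem_and_subset (U := (⊤ : X.Opens)) (x := x) trivial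
    exact ⟨U, U.isOpen, hxU, (finite_generic hd h2 d2 hU).subset fun ξ hξ => ⟨hξ.1.1, hξ.1.2, hξ.2⟩⟩
  · simp [phiFun, hx]
  simp only [Pi.sub_apply, Pi.add_apply, phiFun, dif_pos hx]
  obtain ⟨Tf, hTf⟩ := exists_finset_above hd h2 d2 x
  let bw : (ξ : Above δ k x) → Below δ ξ.1 := fun ξ => ⟨x, ξ.2.1, by rw [hx, ξ.2.2]⟩
  have hsum : ∀ ψ : (ξ : X) → Below δ ξ → ℤ, (∀ ξ ∉ S, ψ ξ = 0) →
      (∑ᶠ ξ : Above δ k x, ψ ξ.1 (bw ξ)) = ∑ ξ ∈ Tf, ψ ξ.1 (bw ξ) := fun ψ hψ =>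
    finsum_eq_sum_of_support_subset _ fun ξ hξ => hTf ξ (by
      by_contra hn
      exact hξ (show ψ ξ.1 (bw ξ) = 0 by rw [hψ ξ.1 fun h => hn h.2]; rfl))
  rw [hsum _ fun ξ h => volRep_eq_zero hd h2 d2 h,
    hsum _ fun ξ h => volRep_eq_zero hd h1 d1 fun h' => h ⟨h'.1, nt1 _ h'.2⟩,
    hsum _ fun ξ h => volRep_eq_zero hd h3 d3 fun h' => h ⟨h'.1, nt3 _ h'.2⟩, hsum φ h0]
  simp only [φ, Pi.sub_apply, Finset.sum_sub_distrib]
  suffices key : CycAlg.herbrand (X.presheaf.stalk x) (diag δ k T.X₂ x) 0 =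
      CycAlg.herbrand (X.presheaf.stalk x) (diag δ k T.X₁ x) 0 +
        CycAlg.herbrand (X.presheaf.stalk x) (diag δ k T.X₃ x) 0 - ∑ ξ ∈ Tf, dfi ξ.1 (bw ξ) by
    linarith
  -- the product of the right-hand maps
  set A := X.presheaf.stalk x
  set f₀ := Cyc26.stalkLin T.f x
  set g₀ := Cyc26.stalkLin T.g x
  have hgK : ∀ ξ : Above δ k x, kerSpec T.X₂ ξ.2.1 ≤ (kerSpec T.X₃ ξ.2.1).comap g₀ := fun ξ m hm => by
    show T.X₃.presheaf.stalkSpecializes ξ.2.1 (g₀ m) = 0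
    rw [stalkLin_specializes, show T.X₂.presheaf.stalkSpecializes ξ.2.1 m = 0 from hm, map_zero]
  have hfK : ∀ ξ : Above δ k x, kerSpec T.X₁ ξ.2.1 = (kerSpec T.X₂ ξ.2.1).comap f₀ := fun ξ => by
    ext m
    show _ = 0 ↔ T.X₂.presheaf.stalkSpecializes ξ.2.1 (f₀ m) = 0
    rw [stalkLin_specializes]
    exact ⟨fun h => by rw [h, map_zero], fun h => (hex ξ.1).1 (h.trans (map_zero _).symm)⟩
  let gπ : (∀ ξ : Above δ k x, T.X₂.presheaf.stalk x ⧸ kerSpec T.X₂ ξ.2.1) →ₗ[A]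
      (∀ ξ : Above δ k x, T.X₃.presheaf.stalk x ⧸ kerSpec T.X₃ ξ.2.1) :=
    LinearMap.pi fun ξ => (Submodule.mapQ _ _ g₀ (hgK ξ)) ∘ₗ LinearMap.proj ξ
  have hgπ : ∀ y ξ, gπ y ξ = Submodule.mapQ _ _ g₀ (hgK ξ) (y ξ) := fun _ _ => rfl
  have hgπs : Function.Surjective gπ := fun z => by
    choose m hm using fun ξ => Submodule.Quotient.mk_surjective _ (z ξ)
    choose m' hm' using fun ξ => (hex x).2.2 (m ξ)
    exact ⟨fun ξ => Submodule.Quotient.mk (m' ξ), funext fun ξ => by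
      rw [hgπ, Submodule.mapQ_apply, hm' ξ, hm ξ]⟩
  have hgf : ∀ m, g₀ (f₀ m) = 0 := fun m => ((hex x).2.1 _).2 ⟨m, rfl⟩
  let φ₁ : T.X₁.presheaf.stalk x →ₗ[A] LinearMap.ker gπ :=
    LinearMap.codRestrict _ (diag δ k T.X₂ x ∘ₗ f₀) fun m => funext fun ξ => by
      rw [hgπ]
      show Submodule.Quotient.mk (g₀ (f₀ m)) = 0
      rw [hgf, Submodule.Quotient.mk_zero]
  have fin1 := finCoh_diag hd h1 d1 hx
  have fin2 := finCoh_diag hd h2 d2 hx
  have fin3 := finCoh_diag hd h3 d3 hx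
  obtain ⟨fin1', -, -, eA⟩ := Herbrand26.shortExact (φ₁ := φ₁) (ψ₁ := 0) (φ₂ := diag δ k T.X₂ x) (ψ₂ := 0)
    (φ₃ := diag δ k T.X₃ x) (ψ₃ := 0) ⟨LinearMap.comp_zero _, LinearMap.zero_comp _⟩
    (f₁ := f₀) (g₁ := (LinearMap.ker gπ).subtype) (f₂ := g₀) (g₂ := gπ)
    rfl (by simp) (LinearMap.ext fun m => funext fun ξ => rfl) (by simp)
    (hex x).1 Subtype.val_injective (hex x).2.2 hgπs (hex x).2.1.linearMap_ker_eq.symm (Submodule.range_subtype _)
    (Or.inr (Or.inr ⟨fin2, fin3⟩))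
  -- comparison with the lattice of the subsheaf
  let ι : (∀ ξ : Above δ k x, T.X₁.presheaf.stalk x ⧸ kerSpec T.X₁ ξ.2.1) →ₗ[A] LinearMap.ker gπ :=
    LinearMap.codRestrict _ (LinearMap.pi fun ξ =>
      (Submodule.mapQ _ _ f₀ (hfK ξ).le) ∘ₗ LinearMap.proj ξ) fun z => funext fun ξ => by
      obtain ⟨m, hm⟩ := Submodule.Quotient.mk_surjective _ (z ξ)
      show Submodule.mapQ _ _ g₀ (hgK ξ) (Submodule.mapQ _ _ f₀ (hfK ξ).le (z ξ)) = 0
      rw [← hm, Submodule.mapQ_apply, Submodule.mapQ_apply, hgf, Submodule.Quotient.mk_zero]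
  have hι : Function.Injective ι := by
    intro z z' he
    funext ξ
    obtain ⟨m, hm⟩ := Submodule.Quotient.mk_surjective _ (z ξ)
    obtain ⟨m', hm'⟩ := Submodule.Quotient.mk_surjective _ (z' ξ)
    have he' : Submodule.mapQ _ _ f₀ (hfK ξ).le (z ξ) = Submodule.mapQ _ _ f₀ (hfK ξ).le (z' ξ) :=
      congrFun (congrArg Subtype.val he) ξ
    rw [← hm, ← hm', Submodule.mapQ_apply, Submodule.mapQ_apply, Submodule.Quotient.eq, ← map_sub] at he'
    rw [← hm, ← hm', Submodule.Quotient.eq, hfK]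
    exact he'
  let C := ↥(LinearMap.ker gπ) ⧸ LinearMap.range ι
  let Z0 := T.X₁.presheaf.stalk x ⧸ (⊤ : Submodule A (T.X₁.presheaf.stalk x))
  haveI : Subsingleton Z0 := Submodule.Quotient.subsingleton_iff.2 rfl
  obtain ⟨-, -, finC, eB⟩ := Herbrand26.shortExact (φ₁ := diag δ k T.X₁ x) (ψ₁ := 0) (φ₂ := φ₁) (ψ₂ := 0)
    (φ₃ := (0 : Z0 →ₗ[A] C)) (ψ₃ := 0) ⟨LinearMap.comp_zero _, LinearMap.zero_comp _⟩
    (f₁ := LinearMap.id) (g₁ := ι) (f₂ := (⊤ : Submodule A _).mkQ) (g₂ := (LinearMap.range ι).mkQ)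
    (LinearMap.ext fun m => Subtype.ext rfl) (by simp)
    (LinearMap.ext fun m => show (0 : C) = (LinearMap.range ι).mkQ (φ₁ m) from ((Submodule.Quotient.mk_eq_zero (LinearMap.range ι)).2 (LinearMap.mem_range.2 ⟨diag δ k T.X₁ x m, Subtype.ext rfl⟩)).symm)
    (by simp) Function.injective_id hι (Submodule.mkQ_surjective _) (Submodule.mkQ_surjective _)
    (by rw [Submodule.ker_mkQ, LinearMap.range_id]) (Submodule.ker_mkQ _).symm (Or.inl ⟨fin1, fin1'⟩)
  have hC : Module.length A C = ∑ ξ ∈ Tf, df ξ.1 (bw ξ) := by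
    let Q : (ξ : Above δ k x) → Submodule A (T.X₂.presheaf.stalk x) := fun ξ =>
      { carrier := {m | T.X₂.presheaf.stalkSpecializes ξ.2.1 m ∈ LinearMap.range (Cyc26.stalkLin T.f ξ.1)}
        zero_mem' := Set.mem_setOf.2 (by rw [map_zero]; exact zero_mem _)
        add_mem' := fun {a b} ha hb => Set.mem_setOf.2 (by rw [map_add]; exact add_mem ha hb)
        smul_mem' := fun r m hm => Set.mem_setOf.2 (by
          rw [Cyc26.stalkSpecializes_smul]; exact Submodule.smul_mem _ _ hm) }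
    let Z : (ξ : Above δ k x) → Submodule A (Q ξ) := fun ξ =>
      ((LinearMap.range f₀ ⊔ kerSpec T.X₂ ξ.2.1) ⊓ Q ξ).submoduleOf (Q ξ)
    let θ : (∀ ξ, Q ξ) →ₗ[A] LinearMap.ker gπ :=
      LinearMap.codRestrict _ (LinearMap.pi fun ξ =>
        (kerSpec T.X₂ ξ.2.1).mkQ ∘ₗ (Q ξ).subtype ∘ₗ LinearMap.proj ξ) fun y => funext fun ξ => by
        show Submodule.mapQ _ _ g₀ (hgK ξ) (Submodule.Quotient.mk (y ξ).1) = 0
        rw [Submodule.mapQ_apply, Submodule.Quotient.mk_eq_zero]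
        show T.X₃.presheaf.stalkSpecializes ξ.2.1 (g₀ (y ξ).1) = 0
        rw [stalkLin_specializes]
        exact ((hex ξ.1).2.1 _).2 (y ξ).2
    have hθ : Function.Surjective ((LinearMap.range ι).mkQ ∘ₗ θ) := by
      refine (Submodule.mkQ_surjective _).comp fun z => ?_
      choose m hm using fun ξ => Submodule.Quotient.mk_surjective _ (z.1 ξ)
      have hmQ : ∀ ξ, m ξ ∈ Q ξ := fun ξ => by
        have h' : Submodule.mapQ _ _ g₀ (hgK ξ) (z.1 ξ) = 0 := congrFun z.2 ξ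
        rw [← hm ξ, Submodule.mapQ_apply, Submodule.Quotient.mk_eq_zero] at h'
        have h'' : T.X₃.presheaf.stalkSpecializes ξ.2.1 (g₀ (m ξ)) = 0 := h'
        rw [stalkLin_specializes] at h''
        exact ((hex ξ.1).2.1 _).1 h''
      exact ⟨fun ξ => ⟨m ξ, hmQ ξ⟩, Subtype.ext (funext hm)⟩
    let τ : (∀ ξ, Q ξ) →ₗ[A] (∀ ξ, ↥(Q ξ) ⧸ Z ξ) := LinearMap.pi fun ξ => (Z ξ).mkQ ∘ₗ LinearMap.proj ξ
    have hτ : Function.Surjective τ := fun z => by
      choose m hm using fun ξ => Submodule.Quotient.mk_surjective _ (z ξ)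
      exact ⟨m, funext hm⟩
    have hkk : LinearMap.ker ((LinearMap.range ι).mkQ ∘ₗ θ) = LinearMap.ker τ := by
      ext y
      rw [LinearMap.mem_ker, LinearMap.mem_ker]
      show Submodule.Quotient.mk (θ y) = 0 ↔ τ y = 0
      rw [Submodule.Quotient.mk_eq_zero]
      constructor
      · rintro ⟨z, hz⟩
        refine funext fun ξ => (Submodule.Quotient.mk_eq_zero _).2 ⟨?_, (y ξ).2⟩
        obtain ⟨m, hm⟩ := Submodule.Quotient.mk_surjective _ (z ξ)
        have h' : Submodule.mapQ _ _ f₀ (hfK ξ).le (z ξ) = Submodule.Quotient.mk (y ξ).1 :=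
          congrFun (congrArg Subtype.val hz) ξ
        rw [← hm, Submodule.mapQ_apply, Submodule.Quotient.eq] at h'
        exact Submodule.mem_sup.2 ⟨f₀ m, ⟨m, rfl⟩, (y ξ).1 - f₀ m, by rw [← neg_sub]; exact neg_mem h',
          add_sub_cancel _ _⟩
      · intro hy
        have hmem : ∀ ξ, ∃ m, f₀ m - (y ξ).1 ∈ kerSpec T.X₂ ξ.2.1 := fun ξ => by
          obtain ⟨hy', -⟩ := (Submodule.Quotient.mk_eq_zero (Z ξ)).1 (congrFun hy ξ)
          obtain ⟨_, ⟨m, rfl⟩, c, hc, hmc⟩ := Submodule.mem_sup.1 hy'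
          refine ⟨m, ?_⟩
          rw [show f₀ m - (y ξ).1 = -c by rw [show (y ξ).1 = f₀ m + c from hmc.symm]; abel]
          exact neg_mem hc
        choose m hm using hmem
        refine ⟨fun ξ => Submodule.Quotient.mk (m ξ), Subtype.ext (funext fun ξ => ?_)⟩
        exact (Submodule.Quotient.eq _).2 (hm ξ)
    have e := ((LinearMap.quotKerEquivOfSurjective _ hθ).symm.trans
      ((Submodule.quotEquivOfEq _ _ hkk).trans (LinearMap.quotKerEquivOfSurjective τ hτ))).length_eq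
    have hQ : ∀ ξ : Above δ k x, Module.length A (↥(Q ξ) ⧸ Z ξ) = df ξ.1 (bw ξ) := by
      intro ξ
      simp only [df, defect]
      rw [Submodule.map_top]
      rfl
    refine e.trans ((length_pi_of_support Tf fun ξ hξ => ?_).trans (Finset.sum_congr rfl fun ξ _ => hQ ξ))
    refine Submodule.Quotient.subsingleton_iff.2 (eq_top_iff.2 fun m _ => ⟨?_, m.2⟩)
    rw [kerSpec_eq_top (F := T.X₂) ξ.2.1 fun hn => hξ (hTf ξ hn)]
    exact Submodule.mem_sup_right trivial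
  have hH : CycAlg.herbrand A (0 : Z0 →ₗ[A] C) 0 = -((Module.length A C).toNat : ℤ) := by
    rw [CycAlg.herbrand, Module.length_eq_zero_iff.2
      (inferInstance : Subsingleton (CycAlg.perH (0 : Z0 →ₗ[A] C) 0)),
      length_perH_zero (0 : C →ₗ[A] Z0) fun _ => rfl]
    simp
  have hfinC : Module.length A C < ⊤ := by
    rw [← length_perH_zero (0 : C →ₗ[A] Z0) fun _ => rfl]; exact finC.2
  have hdf : ((Module.length A C).toNat : ℤ) = ∑ ξ ∈ Tf, dfi ξ.1 (bw ξ) := by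
    rw [hC] at hfinC ⊢
    have hlt : ∀ ξ ∈ Tf, df ξ.1 (bw ξ) < ⊤ := fun ξ hξ =>
      lt_of_le_of_lt (Finset.single_le_sum (f := fun η : Above δ k x => df η.1 (bw η))
        (fun _ _ => bot_le) hξ) hfinC
    have e : (∑ ξ ∈ Tf, df ξ.1 (bw ξ)) = ((∑ ξ ∈ Tf, (df ξ.1 (bw ξ)).toNat : ℕ) : ℕ∞) := by
      push_cast
      exact Finset.sum_congr rfl fun ξ hξ => (ENat.coe_toNat (hlt ξ hξ).ne).symm
    rw [e, ENat.toNat_coe]
    push_cast
    refine Finset.sum_congr rfl fun ξ hξ => ?_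
    by_cases hn : Nontrivial (T.X₂.presheaf.stalk ξ.1)
    · simp only [dfi, if_pos (show δ ξ.1 = k + 1 ∧ _ from ⟨ξ.2.2, hn⟩)]
    · simp only [dfi, if_neg (show ¬ (δ ξ.1 = k + 1 ∧ _) from fun h => hn h.2), Pi.zero_apply, df]
      rw [defect, Module.length_eq_zero_iff.2]
      · rfl
      refine Submodule.Quotient.subsingleton_iff.2 (eq_top_iff.2 fun m _ => ⟨Submodule.mem_sup_right ?_, m.2⟩)
      show _ = 0
      exact @Subsingleton.elim _ (not_nontrivial_iff_subsingleton.1 hn) _ _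
  rw [eA, eB, hH, hdf]
  ring

end Groth.Agent.Vol26
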