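import Groth.Agent.Lib.Vol26.Place
import Mathlib.RingTheory.Finiteness.Basic
import Mathlib.LinearAlgebra.Determinant

/-! # The lattice cut out on a simple subquotient -/

set_option autoImplicit false
set_option linter.style.haveILetI false

universe u

open Submodule

noncomputable section

namespace Groth.Agent.Vol26

variable {R : Type u} [CommRing R] [IsLocalRing R]

/-- A finitely generated module over the place spanning `N` up to denominators. -/
structure Lat (w : Pl R) (N : Type u) [AddCommGroup N] [Module R N] where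
  M : Type u
  [acg : AddCommGroup M]
  [mod : Module w.A M]
  [fin : Module.Finite w.A M]
  l : M →ₛₗ[w.ρ] N
  surj : ∀ n : N, ∃ (m : M) (s : w.A), IsUnit (w.ρ s) ∧ w.ρ s • n = l m

attribute [instance] Lat.acg Lat.mod Lat.fin

variable {N : Type u} [AddCommGroup N] [Module R N] {W U : Submodule R N} {e : N}

theorem sup_span_of_covBy (h : W ⋖ U) (he : e ∈ U) (hW : e ∉ W) : W ⊔ Submodule.span R {e} = U := by
  rcases h.eq_or_eq le_sup_left (sup_le h.le ((Submodule.span_singleton_le_iff_mem _ _).2 he)) with h1 | h1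
  · exact absurd (h1 ▸ Submodule.mem_sup_right (Submodule.mem_span_singleton_self e)) hW
  · exact h1

theorem exists_sub_smul_mem (h : W ⋖ U) (he : e ∈ U) (hW : e ∉ W) {u : N} (hu : u ∈ U) :
    ∃ r : R, u - r • e ∈ W := by
  rw [← sup_span_of_covBy h he hW, Submodule.mem_sup] at hu
  obtain ⟨y, hy, z, hz, rfl⟩ := hu
  obtain ⟨r, rfl⟩ := Submodule.mem_span_singleton.1 hz
  exact ⟨r, by rwa [add_sub_cancel_right]⟩

theorem not_mem_of_isUnit (hW : e ∉ W) {r : R} (hr : IsUnit r) : r • e ∉ W := fun h =>
  hW ((W.smul_mem_iff_of_isUnit hr).1 h)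

theorem smul_mem_iff_residue (h : W ⋖ U) (he : e ∈ U) (hW : e ∉ W) (r : R) :
    r • e ∈ W ↔ IsLocalRing.residue R r = 0 := by
  rw [IsLocalRing.residue_eq_zero_iff, IsLocalRing.mem_maximalIdeal, mem_nonunits_iff]
  refine ⟨fun h' hr => not_mem_of_isUnit hW hr h', fun hr => ?_⟩
  by_contra hre
  obtain ⟨t, ht⟩ := exists_sub_smul_mem h (U.smul_mem r he) hre he
  rw [smul_smul, ← one_smul R e, ← mul_smul, ← sub_smul, mul_one] at ht
  refine not_mem_of_isUnit hW ?_ ht
  have hm : t * r ∈ IsLocalRing.maximalIdeal R := Ideal.mul_mem_left _ _ hr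
  exact IsLocalRing.isUnit_one_sub_self_of_mem_nonunits _ hm

theorem residue_unique (h : W ⋖ U) (he : e ∈ U) (hW : e ∉ W) {u : N} {r r' : R} (hr : u - r • e ∈ W)
    (hr' : u - r' • e ∈ W) : IsLocalRing.residue R r = IsLocalRing.residue R r' := by
  rw [← sub_eq_zero, ← map_sub, ← smul_mem_iff_residue h he hW, sub_smul]
  have := W.sub_mem hr' hr
  rwa [sub_sub_sub_cancel_left] at this

variable {w : Pl R} (L : Lat w N)

/-- The lattice cut out on a subquotient generated by `e`. -/
def piece (W : Submodule R N) (e : N) : Submodule w.Q (IsLocalRing.ResidueField R) where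
  carrier := {c | ∃ (m : L.M) (r : R), IsLocalRing.residue R r = c ∧ L.l m - r • e ∈ W}
  zero_mem' := ⟨0, 0, map_zero _, by simp⟩
  add_mem' := by
    rintro c c' ⟨m, r, rfl, hm⟩ ⟨m', r', rfl, hm'⟩
    refine ⟨m + m', r + r', map_add _ _ _, ?_⟩
    have := W.add_mem hm hm'
    rwa [sub_add_sub_comm, ← add_smul, ← map_add] at this
  smul_mem' := by
    rintro q c ⟨m, r, rfl, hm⟩
    obtain ⟨a, rfl⟩ := Ideal.Quotient.mk_surjective q
    refine ⟨a • m, w.ρ a * r, ?_, ?_⟩
    · rw [map_mul, Algebra.smul_def, w.algebraMap_mk]; rfl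
    · rw [LinearMap.map_smulₛₗ, mul_smul, ← smul_sub]
      exact W.smul_mem _ hm

theorem mem_piece {c : IsLocalRing.ResidueField R} :
    c ∈ piece L W e ↔ ∃ (m : L.M) (r : R), IsLocalRing.residue R r = c ∧ L.l m - r • e ∈ W := Iff.rfl

theorem piece_mono {W' : Submodule R N} (h : W ≤ W') : piece L W e ≤ piece L W' e := fun _ ⟨m, r, hr, hm⟩ =>
  ⟨m, r, hr, h hm⟩

theorem isLattice_piece (h : W ⋖ U) (he : e ∈ U) (hW : e ∉ W) :
    IsLattice (IsLocalRing.ResidueField R) (piece L W e) where
  fg := by
    classical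
    haveI : IsNoetherian w.A L.M := inferInstance
    obtain ⟨S, hS⟩ := IsNoetherian.noetherian (U.comap L.l)
    have hmem : ∀ m ∈ S, L.l m ∈ U := fun m hm => by
      have : m ∈ U.comap L.l := hS ▸ Submodule.subset_span hm
      exact this
    let F := fun m : L.M => if hm : m ∈ S then
      IsLocalRing.residue R (exists_sub_smul_mem h he hW (hmem m hm)).choose else 0
    refine ⟨S.image F, le_antisymm (Submodule.span_le.2 ?_) ?_⟩
    · intro c hc
      obtain ⟨m, hm, rfl⟩ := Finset.mem_image.1 (Finset.mem_coe.1 hc)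
      exact ⟨m, (exists_sub_smul_mem h he hW (hmem m hm)).choose, by simp only [F, dif_pos hm], (exists_sub_smul_mem h he hW (hmem m hm)).choose_spec⟩
    · rintro c ⟨m, r, rfl, hm⟩
      have key : ∀ m ∈ Submodule.span w.A (S : Set L.M), ∃ r', L.l m - r' • e ∈ W ∧
          IsLocalRing.residue R r' ∈ Submodule.span w.Q (↑(S.image F) : Set (IsLocalRing.ResidueField R)) := by
        intro m hm
        induction hm using Submodule.span_induction with
        | mem m hm =>
          exact ⟨_, (exists_sub_smul_mem h he hW (hmem m hm)).choose_spec,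
            Submodule.subset_span (Finset.mem_coe.2 (Finset.mem_image.2 ⟨m, hm, dif_pos hm⟩))⟩
        | zero => exact ⟨0, by simp, by simp⟩
        | add m m' _ _ hm hm' =>
          obtain ⟨r, h1, h2⟩ := hm
          obtain ⟨r', h1', h2'⟩ := hm'
          refine ⟨r + r', ?_, by rw [map_add]; exact add_mem h2 h2'⟩
          have := W.add_mem h1 h1'
          rwa [sub_add_sub_comm, ← add_smul, ← map_add] at this
        | smul a m _ hm =>
          obtain ⟨r, h1, h2⟩ := hm
          refine ⟨w.ρ a * r, by rw [LinearMap.map_smulₛₗ, mul_smul, ← smul_sub]; exact W.smul_mem _ h1, ?_⟩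
          have := Submodule.smul_mem _ (Ideal.Quotient.mk _ a : w.Q) h2
          rw [map_mul]
          rwa [Algebra.smul_def, w.algebraMap_mk] at this
      have hmU : L.l m ∈ U := by
        have := U.add_mem (h.le hm) (U.smul_mem r he)
        rwa [sub_add_cancel] at this
      obtain ⟨r', h1, h2⟩ := key m (hS.symm ▸ hmU)
      rwa [residue_unique h he hW hm h1]
  span_eq_top := by
    obtain ⟨m, s, hs, hm⟩ := L.surj e
    have hmem : IsLocalRing.residue R (w.ρ s) ∈ piece L W e := ⟨m, w.ρ s, rfl, by rw [hm, sub_self]; exact zero_mem W⟩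
    refine top_unique fun c _ => ?_
    have := Submodule.smul_mem _ (c * (IsLocalRing.residue R (w.ρ s))⁻¹) (Submodule.subset_span (R := IsLocalRing.ResidueField R) hmem)
    rwa [smul_eq_mul, mul_assoc, inv_mul_cancel₀ (hs.map _).ne_zero, mul_one] at this

/-- The unit lattice. -/
def unitLat (w : Pl R) : Submodule w.Q (IsLocalRing.ResidueField R) :=
  Submodule.span w.Q {1}

theorem isLattice_unitLat : IsLattice (IsLocalRing.ResidueField R) (unitLat w) where
  fg := Submodule.fg_span_singleton _
  span_eq_top := by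
    refine top_unique fun c _ => ?_
    have := Submodule.smul_mem _ c (Submodule.subset_span (R := IsLocalRing.ResidueField R)
      (Submodule.mem_span_singleton_self (R := w.Q) (1 : IsLocalRing.ResidueField R)))
    rwa [smul_eq_mul, mul_one] at this

/-- The index of the lattice on a simple subquotient. -/
def pieceDeg (W : Submodule R N) (e : N) : ℤ := Lattice26.dist (piece L W e) (unitLat w)

/-- Changing the generator changes the index by an order. -/
theorem pieceDeg_change (h : W ⋖ U) (he : e ∈ U) (hW : e ∉ W) {e' : N} (he' : e' ∈ U) (hW' : e' ∉ W) {r : R}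
    (hr : e' - r • e ∈ W) :
    pieceDeg L W e' = pieceDeg L W e + w.ord (IsLocalRing.residue R r) := by
  set a := IsLocalRing.residue R r
  have ha : a ≠ 0 := fun h0 => hW' (by
    have := W.add_mem hr ((smul_mem_iff_residue h he hW r).2 h0)
    rwa [sub_add_cancel] at this)
  let f : IsLocalRing.ResidueField R →ₗ[IsLocalRing.ResidueField R] IsLocalRing.ResidueField R :=
    LinearMap.lsmul _ _ a
  have hdet : LinearMap.det f = a := by
    rw [show f = a • LinearMap.id from rfl, LinearMap.det_smul, Module.finrank_self, pow_one, LinearMap.det_id,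
      mul_one]
  have hmap : (piece L W e').map (f.restrictScalars w.Q) = piece L W e := by
    ext c
    constructor
    · rintro ⟨_, ⟨m, r', rfl, hm⟩, rfl⟩
      refine ⟨m, r' * r, by rw [map_mul, mul_comm]; rfl, ?_⟩
      have := W.add_mem hm (W.smul_mem r' hr)
      rwa [smul_sub, sub_add_sub_cancel, ← mul_smul] at this
    · rintro ⟨m, r', rfl, hm⟩
      have hmU : L.l m ∈ U := by
        have := U.add_mem (h.le hm) (U.smul_mem r' he)
        rwa [sub_add_cancel] at this
      obtain ⟨t, ht⟩ := exists_sub_smul_mem h he' hW' hmU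
      refine ⟨_, ⟨m, t, rfl, ht⟩, ?_⟩
      have h2 := W.add_mem ht (W.smul_mem t hr)
      rw [smul_sub, sub_add_sub_cancel, ← mul_smul] at h2
      show a * IsLocalRing.residue R t = _
      rw [mul_comm, ← map_mul]
      exact residue_unique h he hW h2 hm
  haveI := isLattice_piece L h he hW
  haveI := isLattice_piece L h he' hW'
  haveI := isLattice_unitLat (w := w)
  have h1 := Lattice26.F_eq_ord w.dim (piece L W e') f (by rwa [hdet])
  rw [hdet, Lattice26.F, hmap] at h1
  have h2 := Lattice26.dist_add (IsLocalRing.ResidueField R) w.dim (piece L W e') (piece L W e) (unitLat w)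
  simp only [pieceDeg, Pl.ord, h2, h1]
  ring

end Groth.Agent.Vol26
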