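import Groth.Agent.Lib.Lattice26.Det
import Mathlib.RingTheory.LocalRing.ResidueField.Basic
import Mathlib.RingTheory.Localization.FractionRing

/-! # One-dimensional places of the residue field of a local ring -/

set_option autoImplicit false

set_option linter.style.haveILetI false

universe u

open Submodule

namespace Groth.Agent.Vol26

variable (R : Type u) [CommRing R] [IsLocalRing R]

/-- A one-dimensional Noetherian place of a local ring `R`: a ring mapping to `R` with denominators becoming units. -/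
structure Pl where
  A : Type u
  [ring : CommRing A]
  [noeth : IsNoetherianRing A]
  ρ : A →+* R
  surj : ∀ r : R, ∃ a s : A, IsUnit (ρ s) ∧ ρ s * r = ρ a
  dim : ringKrullDim (A ⧸ RingHom.ker ((IsLocalRing.residue R).comp ρ)) ≤ 1

attribute [instance] Pl.ring Pl.noeth

variable {R}

namespace Pl

variable (w : Pl R)

/-- The composite to the residue field. -/
noncomputable def res : w.A →+* IsLocalRing.ResidueField R := (IsLocalRing.residue R).comp w.ρ

theorem res_apply (a : w.A) : w.res a = IsLocalRing.residue R (w.ρ a) := rfl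

/-- The one-dimensional domain of the place. -/
abbrev Q : Type u := w.A ⧸ RingHom.ker ((IsLocalRing.residue R).comp w.ρ)

instance : (RingHom.ker ((IsLocalRing.residue R).comp w.ρ)).IsPrime := RingHom.ker_isPrime _

noncomputable instance algQ : Algebra w.Q (IsLocalRing.ResidueField R) :=
  (RingHom.kerLift ((IsLocalRing.residue R).comp w.ρ)).toAlgebra

theorem algebraMap_mk (a : w.A) :
    algebraMap w.Q (IsLocalRing.ResidueField R) (Ideal.Quotient.mk _ a) = w.res a := rfl

theorem exists_res (c : IsLocalRing.ResidueField R) :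
    ∃ a s : w.A, w.res s ≠ 0 ∧ w.res s * c = w.res a := by
  obtain ⟨r, rfl⟩ := IsLocalRing.residue_surjective c
  obtain ⟨a, s, hs, h⟩ := w.surj r
  exact ⟨a, s, (hs.map (IsLocalRing.residue R)).ne_zero, by rw [res_apply, res_apply, ← map_mul, h]⟩

instance isFractionRing : IsFractionRing w.Q (IsLocalRing.ResidueField R) := by
  haveI : Module.IsTorsionFree w.Q (IsLocalRing.ResidueField R) :=
    Module.isTorsionFree_iff_algebraMap_injective.2 (RingHom.kerLift_injective _)
  refine IsFractionRing.of_field w.Q _ fun c => ?_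
  obtain ⟨a, s, hs, h⟩ := w.exists_res c
  refine ⟨Ideal.Quotient.mk _ a, Ideal.Quotient.mk _ s, ?_⟩
  rw [w.algebraMap_mk, w.algebraMap_mk, eq_div_iff hs, mul_comm, h]

/-- The order at the place. -/
noncomputable def ord (f : IsLocalRing.ResidueField R) : ℤ :=
  CycAlg.ordFrac w.Q (IsLocalRing.ResidueField R) f

theorem ord_mul {f g : IsLocalRing.ResidueField R} (hf : f ≠ 0) (hg : g ≠ 0) :
    w.ord (f * g) = w.ord f + w.ord g :=
  Lattice26.ordFrac_mul w.dim hf hg

theorem ord_one : w.ord 1 = 0 := by
  have h := w.ord_mul (one_ne_zero (α := IsLocalRing.ResidueField R)) one_ne_zero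
  rw [one_mul] at h
  omega

theorem ord_inv {f : IsLocalRing.ResidueField R} (hf : f ≠ 0) : w.ord f⁻¹ = - w.ord f := by
  have h := w.ord_mul hf (inv_ne_zero hf)
  rw [mul_inv_cancel₀ hf, w.ord_one] at h
  omega

end Pl

/-- Families differing by the orders of one rational function. -/
def ordGroup {ι : Type*} (P : ι → Pl R) : AddSubgroup (ι → ℤ) where
  carrier := {φ | ∃ f, f ≠ 0 ∧ ∀ i, φ i = (P i).ord f}
  zero_mem' := ⟨1, one_ne_zero, fun i => ((P i).ord_one).symm⟩
  add_mem' := by
    rintro φ ψ ⟨f, hf, hφ⟩ ⟨g, hg, hψ⟩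
    exact ⟨f * g, mul_ne_zero hf hg, fun i => by rw [(P i).ord_mul hf hg, ← hφ i, ← hψ i]; rfl⟩
  neg_mem' := by
    rintro φ ⟨f, hf, hφ⟩
    exact ⟨f⁻¹, inv_ne_zero hf, fun i => by rw [(P i).ord_inv hf, ← hφ i]; rfl⟩

end Groth.Agent.Vol26
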