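import Groth.Agent.Lib.Vol26.Piece
import Mathlib.RingTheory.Artinian.Module
import Mathlib.Order.Atoms.Finite
import Mathlib.Order.ModularLattice

/-! # The volume of a family of lattices, modulo principal divisors -/

set_option autoImplicit false
set_option linter.style.haveILetI false

universe u v

open Submodule

noncomputable section

namespace Groth.Agent.Vol26

variable {R : Type u} [CommRing R] [IsLocalRing R] {N : Type u} [AddCommGroup N] [Module R N]

section diamond

variable {w : Pl R} (L : Lat w N) {Z W W' U : Submodule R N} {a b : N}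

/-- The symmetry of the index over a square of covers. -/
theorem pieceDeg_diamond (h1 : Z ⋖ W) (h2 : Z ⋖ W') (h3 : W ⋖ U) (h4 : W' ⋖ U) (ha : a ∈ W) (haZ : a ∉ Z)
    (hb : b ∈ W') (hbZ : b ∉ Z) (haW : a ∉ W') (hbW : b ∉ W) :
    pieceDeg L Z a + pieceDeg L W b = pieceDeg L Z b + pieceDeg L W' a := by
  haveI := isLattice_unitLat (w := w)
  haveI := isLattice_piece L h1 ha haZ
  haveI := isLattice_piece L h2 hb hbZ
  haveI := isLattice_piece L h3 (h4.le hb) hbW
  haveI := isLattice_piece L h4 (h3.le ha) haW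
  -- the joint lattice
  let J : Submodule w.Q (IsLocalRing.ResidueField R × IsLocalRing.ResidueField R) :=
    { carrier := {p | ∃ (m : L.M) (r r' : R), IsLocalRing.residue R r = p.1 ∧ IsLocalRing.residue R r' = p.2 ∧
        L.l m - r • a - r' • b ∈ Z}
      zero_mem' := ⟨0, 0, 0, map_zero _, map_zero _, by simp⟩
      add_mem' := by
        rintro ⟨p, q⟩ ⟨p', q'⟩ ⟨m, r, s, hr, hs, hm⟩ ⟨m', r', s', hr', hs', hm'⟩
        refine ⟨m + m', r + r', s + s', (map_add _ _ _).trans (congrArg₂ (· + ·) hr hr'), (map_add _ _ _).trans (congrArg₂ (· + ·) hs hs'), ?_⟩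
        have := Z.add_mem hm hm'
        convert this using 1
        rw [map_add, add_smul, add_smul]; abel
      smul_mem' := by
        rintro q ⟨p, p'⟩ ⟨m, r, r', hr, hr', hm⟩
        obtain ⟨x, rfl⟩ := Ideal.Quotient.mk_surjective q
        refine ⟨x • m, w.ρ x * r, w.ρ x * r', ?_, ?_, ?_⟩
        · show _ = (Ideal.Quotient.mk _ x : w.Q) • p
          rw [map_mul, Algebra.smul_def, w.algebraMap_mk, hr]; rfl
        · show _ = (Ideal.Quotient.mk _ x : w.Q) • p'
          rw [map_mul, Algebra.smul_def, w.algebraMap_mk, hr']; rfl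
        · rw [LinearMap.map_smulₛₗ, mul_smul, mul_smul, ← smul_sub, ← smul_sub]
          exact Z.smul_mem _ hm }
  -- the two projections
  let p1 : J →ₗ[w.Q] piece L W' a :=
    LinearMap.codRestrict _ ((LinearMap.fst _ _ _).comp J.subtype) fun p => by
      obtain ⟨m, r, r', hr, hr', hm⟩ := p.2
      refine ⟨m, r, hr, ?_⟩
      have := W'.add_mem (h2.le hm) (W'.smul_mem r' hb)
      rwa [sub_add_cancel] at this
  let p2 : J →ₗ[w.Q] piece L W b :=
    LinearMap.codRestrict _ ((LinearMap.snd _ _ _).comp J.subtype) fun p => by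
      obtain ⟨m, r, r', hr, hr', hm⟩ := p.2
      refine ⟨m, r', hr', ?_⟩
      have := W.add_mem (h1.le hm) (W.smul_mem r ha)
      rwa [sub_right_comm, sub_add_cancel] at this
  have s1 : Function.Surjective p1 := by
    rintro ⟨c, m, r, rfl, hm⟩
    obtain ⟨r', hr'⟩ := exists_sub_smul_mem h2 hb hbZ hm
    exact ⟨⟨(IsLocalRing.residue R r, IsLocalRing.residue R r'), m, r, r', rfl, rfl, hr'⟩, rfl⟩
  have s2 : Function.Surjective p2 := by
    rintro ⟨c, m, r', rfl, hm⟩
    obtain ⟨r, hr⟩ := exists_sub_smul_mem h1 ha haZ hm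
    exact ⟨⟨(IsLocalRing.residue R r, IsLocalRing.residue R r'), m, r, r', rfl, rfl,
      by rwa [sub_right_comm] at hr⟩, rfl⟩
  let P1 := (piece L Z a).submoduleOf (piece L W' a)
  let P2 := (piece L Z b).submoduleOf (piece L W b)
  have hker : P1.comap p1 = P2.comap p2 := by
    ext p
    obtain ⟨m, r, r', hr, hr', hm⟩ := p.2
    show p.1.1 ∈ piece L Z a ↔ p.1.2 ∈ piece L Z b
    constructor
    · rintro ⟨m₁, r₁, hr₁, hm₁⟩
      refine ⟨m - m₁, r', hr', ?_⟩
      have h0 : (r - r₁) • a ∈ Z := (smul_mem_iff_residue h1 ha haZ _).2 (by rw [map_sub, hr, hr₁, sub_self])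
      have := Z.add_mem (Z.sub_mem hm hm₁) h0
      convert this using 1
      rw [map_sub, sub_smul]; abel
    · rintro ⟨m₁, r₁, hr₁, hm₁⟩
      refine ⟨m - m₁, r, hr, ?_⟩
      have h0 : (r' - r₁) • b ∈ Z := (smul_mem_iff_residue h2 hb hbZ _).2 (by rw [map_sub, hr', hr₁, sub_self])
      have := Z.add_mem (Z.sub_mem hm hm₁) h0
      convert this using 1
      rw [map_sub, sub_smul]; abel
  let e1 := LinearMap.quotKerEquivOfSurjective (P1.mkQ ∘ₗ p1) (P1.mkQ_surjective.comp s1)
  let e2 := LinearMap.quotKerEquivOfSurjective (P2.mkQ ∘ₗ p2) (P2.mkQ_surjective.comp s2)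
  have hlen : Module.length w.Q (↥(piece L W' a) ⧸ P1) = Module.length w.Q (↥(piece L W b) ⧸ P2) := by
    rw [← e1.length_eq, ← e2.length_eq]
    refine (Submodule.quotEquivOfEq _ _ ?_).length_eq
    rw [LinearMap.ker_comp, LinearMap.ker_comp, Submodule.ker_mkQ, Submodule.ker_mkQ, hker]
  have key : ∀ (P P' : Submodule w.Q (IsLocalRing.ResidueField R)), P ≤ P' →
      Lattice26.dist P' P = ((Module.length w.Q (↥P' ⧸ P.submoduleOf P')).toNat : ℤ) := by
    intro P P' h
    rw [Lattice26.dist, inf_eq_right.2 h, Submodule.submoduleOf_self,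
      Module.length_eq_zero_iff.2 (inferInstance : Subsingleton (↥P ⧸ (⊤ : Submodule w.Q P)))]
    simp
  have d1 := Lattice26.dist_add (IsLocalRing.ResidueField R) w.dim (piece L W b) (piece L Z b) (unitLat w)
  have d2 := Lattice26.dist_add (IsLocalRing.ResidueField R) w.dim (piece L W' a) (piece L Z a) (unitLat w)
  rw [key _ _ (piece_mono L h1.le)] at d1
  rw [key _ _ (piece_mono L h2.le)] at d2
  simp only [pieceDeg, d1, d2]
  simp only [P1, P2] at hlen
  rw [hlen]
  ring

end diamond

variable {ι : Type v} {P : ι → Pl R}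

/-- The group of families of integers modulo orders of rational functions. -/
abbrev Cls (P : ι → Pl R) : Type v := (ι → ℤ) ⧸ ordGroup P

/-- The index on a cover, as a class. -/
def dd (L : ∀ i, Lat (P i) N) (W : Submodule R N) (e : N) : Cls P :=
  QuotientAddGroup.mk fun i => pieceDeg (L i) W e

theorem dd_indep (L : ∀ i, Lat (P i) N) {W U : Submodule R N} (h : W ⋖ U) {e e' : N} (he : e ∈ U) (hW : e ∉ W)
    (he' : e' ∈ U) (hW' : e' ∉ W) : dd L W e = dd L W e' := by
  obtain ⟨r, hr⟩ := exists_sub_smul_mem h he hW he'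
  refine QuotientAddGroup.eq.2 ⟨IsLocalRing.residue R r, fun h0 => hW' ?_, fun i => ?_⟩
  · have := W.add_mem hr ((smul_mem_iff_residue h he hW r).2 h0)
    rwa [sub_add_cancel] at this
  · show -pieceDeg (L i) W e + pieceDeg (L i) W e' = _
    rw [pieceDeg_change (L i) h he hW he' hW' hr]
    ring

open scoped Classical in
/-- The volume of a submodule. -/
def vol [IsArtinian R N] (L : ∀ i, Lat (P i) N) : Submodule R N → Cls P :=
  (IsWellFounded.wf (r := ((· < ·) : Submodule R N → Submodule R N → Prop))).fix fun U v =>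
    if h : ∃ (W : Submodule R N) (e : N), W ⋖ U ∧ e ∈ U ∧ e ∉ W then
      v h.choose h.choose_spec.choose_spec.1.lt + dd L h.choose h.choose_spec.choose else 0

variable [IsArtinian R N] [IsNoetherian R N] (L : ∀ i, Lat (P i) N)

open scoped Classical in
theorem vol_eq (U : Submodule R N) :
    vol L U = if h : ∃ (W : Submodule R N) (e : N), W ⋖ U ∧ e ∈ U ∧ e ∉ W then
      vol L h.choose + dd L h.choose h.choose_spec.choose else 0 := by
  unfold vol
  rw [WellFounded.fix_eq]

theorem vol_bot : vol L (⊥ : Submodule R N) = 0 := by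
  rw [vol_eq, dif_neg]
  rintro ⟨W, e, h, he, hW⟩
  exact hW ((Submodule.mem_bot R).1 he ▸ zero_mem W)

theorem exists_mem_notMem {W U : Submodule R N} (h : W < U) : ∃ e ∈ U, e ∉ W := SetLike.exists_of_lt h

/-- The volume grows by the index across every cover. -/
theorem vol_cover {W U : Submodule R N} (h : W ⋖ U) {e : N} (he : e ∈ U) (hW : e ∉ W) :
    vol L U = vol L W + dd L W e := by
  classical
  induction U using WellFoundedLT.induction generalizing W e with
  | ind U ih =>
    have hex : ∃ (W : Submodule R N) (e : N), W ⋖ U ∧ e ∈ U ∧ e ∉ W := ⟨W, e, h, he, hW⟩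
    rw [vol_eq, dif_pos hex]
    obtain ⟨h0, he0, hW0⟩ := hex.choose_spec.choose_spec
    revert h0 he0 hW0
    generalize hex.choose_spec.choose = e0
    generalize hex.choose = W0
    intro h0 he0 hW0
    rcases eq_or_ne W0 W with rfl | hne
    · rw [dd_indep L h he0 hW0 he hW]
    have hsup : W ⊔ W0 = U := by
      rcases h.eq_or_eq (le_sup_left : W ≤ W ⊔ W0) (sup_le h.le h0.le) with h1 | h1
      · rcases h0.eq_or_eq (sup_eq_left.1 h1) h.le with h2 | h2
        · exact absurd h2.symm hne
        · exact absurd h2 h.ne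
      · exact h1
    have c1 : W ⊓ W0 ⋖ W := inf_covBy_of_covBy_sup_right (by rw [hsup]; exact h0)
    have c2 : W ⊓ W0 ⋖ W0 := inf_covBy_of_covBy_sup_left (by rw [hsup]; exact h)
    obtain ⟨a, ha, haZ⟩ := exists_mem_notMem c1.lt
    obtain ⟨b, hb, hbZ⟩ := exists_mem_notMem c2.lt
    have haW : a ∉ W0 := fun h' => haZ ⟨ha, h'⟩
    have hbW : b ∉ W := fun h' => hbZ ⟨h', hb⟩
    rw [ih W0 h0.lt c2 hb hbZ, ih W h.lt c1 ha haZ, dd_indep L h0 he0 hW0 (h.le ha) haW,
      dd_indep L h he hW (h0.le hb) hbW, add_assoc, add_assoc]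
    congr 1
    show QuotientAddGroup.mk' _ _ + QuotientAddGroup.mk' _ _ = QuotientAddGroup.mk' _ _ + QuotientAddGroup.mk' _ _
    rw [← map_add, ← map_add]
    exact congrArg _ (funext fun i => (pieceDeg_diamond (L i) c1 c2 h h0 ha haZ hb hbZ haW hbW).symm)

theorem exists_covBy {U : Submodule R N} (h : U ≠ ⊥) : ∃ (W : Submodule R N) (e : N), W ⋖ U ∧ e ∈ U ∧ e ∉ W := by
  obtain ⟨W, hW, hmax⟩ := (wellFounded_gt (α := Submodule R N)).has_min {W | W < U} ⟨⊥, bot_lt_iff_ne_bot.2 h⟩
  obtain ⟨e, he, heW⟩ := exists_mem_notMem hW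
  exact ⟨W, e, ⟨hW, fun V h1 h2 => hmax V h2 h1⟩, he, heW⟩

/-- Induction along covers. -/
theorem cover_induction {motive : Submodule R N → Prop} (U : Submodule R N) (hbot : motive ⊥)
    (step : ∀ (W U : Submodule R N) (e : N), W ⋖ U → e ∈ U → e ∉ W → motive W → motive U) : motive U := by
  induction U using WellFoundedLT.induction with
  | ind U ih =>
    rcases eq_or_ne U ⊥ with rfl | h
    · exact hbot
    · obtain ⟨W, e, hc, he, hW⟩ := exists_covBy h
      exact step W U e hc he hW (ih W hc.lt)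

end Groth.Agent.Vol26
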